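import Mathlib
import Cfsg.Agent.Lib.Unitary.Simple
import Cfsg.Agent.Lib.ClGeo.F4

/-!
# Alternating trilinear forms on the natural module of `SU6(2)` and their real form
-/

set_option autoImplicit false

namespace H94.U20
open Cfsg H30 H11.U Matrix

instance sqF4 : IsSq F4 2 := ⟨rfl⟩

/-- the natural module -/
abbrev N : Type := Fin 6 → F4

/-- the group -/
abbrev Γ : Type := SU 6 F4 2

/-- the functions of three vectors -/
abbrev Tr : Type := N → N → N → F4

/-- the standard basis -/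
abbrev e (i : Fin 6) : N := Pi.single i 1

theorem two0 : (2 : F4) = 0 := F4.two_eq_zero

theorem add_self (x : F4) : x + x = 0 := CharTwo.add_self_eq_zero x

theorem addN (x : N) : x + x = 0 := funext fun i => add_self (x i)

/-- alternating trilinear forms -/
structure IsT (T : Tr) : Prop where
  add : ∀ x x' y z, T (x + x') y z = T x y z + T x' y z
  smul : ∀ (c : F4) x y z, T (c • x) y z = c * T x y z
  sw1 : ∀ x y z, T x y z = T y x z
  sw2 : ∀ x y z, T x y z = T x z y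
  alt : ∀ x z, T x x z = 0

namespace IsT
variable {T : Tr} (h : IsT T)
include h

theorem add2 (x y y' z : N) : T x (y + y') z = T x y z + T x y' z := by
  rw [h.sw1, h.add, h.sw1 y, h.sw1 y']

theorem add3 (x y z z' : N) : T x y (z + z') = T x y z + T x y z' := by
  rw [h.sw2, h.add2, h.sw2 x z, h.sw2 x z']

theorem smul2 (c : F4) (x y z : N) : T x (c • y) z = c * T x y z := by
  rw [h.sw1, h.smul, h.sw1 y]

theorem smul3 (c : F4) (x y z : N) : T x y (c • z) = c * T x y z := by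
  rw [h.sw2, h.smul2, h.sw2 x z]

theorem alt2 (x y : N) : T x y y = 0 := by rw [h.sw1, h.sw2, h.alt]

theorem alt3 (x y : N) : T x y x = 0 := by rw [h.sw2, h.alt]

theorem zero1 (y z : N) : T 0 y z = 0 := by simpa using h.smul 0 0 y z

theorem zero2 (x z : N) : T x 0 z = 0 := by rw [h.sw1, h.zero1]

theorem zero3 (x y : N) : T x y 0 = 0 := by rw [h.sw2, h.zero2]

theorem sum1 (x y z : N) : T x y z = ∑ i, x i * T (e i) y z := by
  conv_lhs => rw [show x = x 0 • e 0 + x 1 • e 1 + x 2 • e 2 + x 3 • e 3 + x 4 • e 4 + x 5 • e 5 by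
    funext i; fin_cases i <;> simp]
  simp only [h.add, h.smul, Fin.sum_univ_six]

theorem sum2 (x y z : N) : T x y z = ∑ i, y i * T x (e i) z := by
  rw [h.sw1, h.sum1]
  simp only [h.sw1 x]

theorem sum3 (x y z : N) : T x y z = ∑ i, z i * T x y (e i) := by
  rw [h.sw2, h.sum2]
  simp only [h.sw2 x y]

end IsT

/-- the number of a triple -/
def cd (i j k : Fin 6) : ℕ := 0xa5294a529452dc9a2a8c7a28b65226a39f1a0e8941874a514b72694a52945528d81d746d24575212a093439454a2a8c7a154a3607a5294a518da52647c293a0507a1034a2d94899746d2456369499294a52948ca74a00c525014a39f1a0dd484a827c293a06329d280a5294a506208294a25061d1343945441e840d0c52501418820a5294a5294 / 32 ^ (36 * i.1 + 6 * j.1 + k.1) % 32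

/-- the triples -/
def t1 (n : ℕ) : Fin 6 := ([0, 0, 0, 0, 0, 0, 0, 0, 0, 0, 3, 2, 2, 2, 1, 1, 1, 1, 1, 1] : List (Fin 6)).getD n 0

/-- the triples -/
def t2 (n : ℕ) : Fin 6 := ([1, 1, 1, 1, 2, 2, 2, 3, 3, 4, 4, 4, 3, 3, 4, 3, 3, 2, 2, 2] : List (Fin 6)).getD n 0

/-- the triples -/
def t3 (n : ℕ) : Fin 6 := ([2, 3, 4, 5, 3, 4, 5, 4, 5, 5, 5, 5, 5, 4, 5, 5, 4, 5, 4, 3] : List (Fin 6)).getD n 0

/-- the coordinates of a form -/
def co (T : Tr) (n : ℕ) : F4 := T (e (t1 n)) (e (t2 n)) (e (t3 n))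

theorem cd_sw1 : ∀ i j k, cd i j k = cd j i k := by decide +kernel

theorem cd_sw2 : ∀ i j k, cd i j k = cd i k j := by decide +kernel

theorem cd_alt : ∀ i k, cd i i k = 20 := by decide +kernel

theorem cd_t : ∀ n < 20, cd (t1 n) (t2 n) (t3 n) = n := by decide +kernel

theorem cd_le : ∀ i j k, cd i j k ≤ 20 := by decide +kernel

theorem cd_cases : ∀ i j k, i = j ∧ cd i j k = 20 ∨ j = k ∧ cd i j k = 20 ∨ i = k ∧ cd i j k = 20 ∨
    (fun a b c => i = a ∧ (j = b ∧ k = c ∨ j = c ∧ k = b) ∨ i = b ∧ (j = a ∧ k = c ∨ j = c ∧ k = a) ∨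
      i = c ∧ (j = a ∧ k = b ∨ j = b ∧ k = a)) (t1 (cd i j k)) (t2 (cd i j k)) (t3 (cd i j k)) := by
  decide +kernel

theorem IsT.co20 {T : Tr} (h : IsT T) : co T 20 = 0 := h.alt _ _

theorem IsT.basis {T : Tr} (h : IsT T) (i j k : Fin 6) : T (e i) (e j) (e k) = co T (cd i j k) := by
  rcases cd_cases i j k with ⟨rfl, a⟩ | ⟨rfl, a⟩ | ⟨rfl, a⟩ | a
  · rw [a, h.co20, h.alt]
  · rw [a, h.co20, h.alt2]
  · rw [a, h.co20, h.alt3]
  · unfold co
    generalize t1 _ = x, t2 _ = y, t3 _ = z at a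
    rcases a with ⟨rfl, ⟨rfl, rfl⟩ | ⟨rfl, rfl⟩⟩ | ⟨rfl, ⟨rfl, rfl⟩ | ⟨rfl, rfl⟩⟩ |
      ⟨rfl, ⟨rfl, rfl⟩ | ⟨rfl, rfl⟩⟩
    exacts [rfl, h.sw2 _ _ _, h.sw1 _ _ _, by rw [h.sw2, h.sw1], by rw [h.sw1, h.sw2],
      by rw [h.sw1, h.sw2, h.sw1]]

theorem IsT.ext {T T' : Tr} (h : IsT T) (h' : IsT T') (H : ∀ n < 20, co T n = co T' n) : T = T' := by
  funext x y z
  rw [h.sum1, h'.sum1]
  refine Finset.sum_congr rfl fun i _ => ?_
  rw [h.sum2, h'.sum2]
  refine congrArg _ (Finset.sum_congr rfl fun j _ => ?_)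
  rw [h.sum3, h'.sum3]
  refine congrArg _ (Finset.sum_congr rfl fun k _ => ?_)
  rw [h.basis, h'.basis]
  rcases (cd_le i j k).lt_or_eq with a | a
  · rw [H _ a]
  · rw [a, h.co20, h'.co20]

/-- truncated coefficients -/
def cf (c : ℕ → F4) (n : ℕ) : F4 := if n < 20 then c n else 0

/-- the form with given coordinates -/
def mk (c : ℕ → F4) : Tr := fun x y z => ∑ i, ∑ j, ∑ k, x i * y j * z k * cf c (cd i j k)

theorem isT_mk (c : ℕ → F4) : IsT (mk c) where
  add x x' y z := by simp [mk, add_mul, Finset.sum_add_distrib]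
  smul a x y z := by simp [mk, Finset.mul_sum, mul_assoc]
  sw1 x y z := by
    unfold mk
    rw [Finset.sum_comm]
    refine Finset.sum_congr rfl fun i _ => Finset.sum_congr rfl fun j _ =>
      Finset.sum_congr rfl fun k _ => ?_
    rw [cd_sw1 j i, mul_comm (x j)]
  sw2 x y z := by
    unfold mk
    refine Finset.sum_congr rfl fun i _ => ?_
    rw [Finset.sum_comm]
    refine Finset.sum_congr rfl fun j _ => Finset.sum_congr rfl fun k _ => ?_
    rw [cd_sw2 i k, mul_right_comm (x i)]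
  alt x z := by
    unfold mk
    rw [← Finset.sum_product']
    refine Finset.sum_involution (fun p _ => p.swap) (fun p _ => ?_) (fun p _ hp a => hp ?_)
      (fun p _ => by simp) (fun p _ => rfl)
    · rw [← Finset.sum_add_distrib]
      refine Finset.sum_eq_zero fun k _ => ?_
      rw [Prod.fst_swap, Prod.snd_swap, cd_sw1 p.2, mul_comm (x p.2), add_self]
    · rw [show p.1 = p.2 from (congrArg Prod.fst a).symm]
      simp [cd_alt, cf]

theorem co_mk (c : ℕ → F4) {n : ℕ} (hn : n < 20) : co (mk c) n = c n := by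
  have : co (mk c) n = cf c (cd (t1 n) (t2 n) (t3 n)) := by simp [co, mk, Pi.single_apply]
  rw [this, cd_t n hn, cf, if_pos hn]

theorem co_add (T T' : Tr) (n : ℕ) : co (T + T') n = co T n + co T' n := rfl

theorem co_smul (a : F4) (T : Tr) (n : ℕ) : co (a • T) n = a * co T n := rfl

theorem IsT.add' {T T' : Tr} (h : IsT T) (h' : IsT T') : IsT (T + T') where
  add x x' y z := by simp only [Pi.add_apply, h.add, h'.add]; ring
  smul a x y z := by simp only [Pi.add_apply, h.smul, h'.smul]; ring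
  sw1 x y z := by simp only [Pi.add_apply, h.sw1 x, h'.sw1 x]
  sw2 x y z := by simp only [Pi.add_apply, h.sw2 x y, h'.sw2 x y]
  alt x z := by simp only [Pi.add_apply, h.alt, h'.alt, add_zero]

theorem IsT.smul' {T : Tr} (h : IsT T) (c : F4) : IsT (c • T) where
  add x x' y z := by simp only [Pi.smul_apply, h.add, smul_add]
  smul a x y z := by simp only [Pi.smul_apply, h.smul, smul_eq_mul]; ring
  sw1 x y z := by simp only [Pi.smul_apply, h.sw1 x]
  sw2 x y z := by simp only [Pi.smul_apply, h.sw2 x y]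
  alt x z := by simp only [Pi.smul_apply, h.alt, smul_zero]

theorem negT (T : Tr) : -T = T := rfl

/-- the real form -/
def V : AddSubgroup Tr where
  carrier := {T | IsT T ∧ ∀ n < 10, co T (n + 10) = cj 2 (co T n)}
  zero_mem' := ⟨⟨fun _ _ _ _ => (add_zero _).symm, fun _ _ _ _ => (mul_zero _).symm,
    fun _ _ _ => rfl, fun _ _ _ => rfl, fun _ _ => rfl⟩, fun _ _ => (map_zero _).symm⟩
  add_mem' h h' := ⟨h.1.add' h'.1, fun n hn => by rw [co_add, co_add, map_add, h.2 n hn, h'.2 n hn]⟩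
  neg_mem' h := h

/-- the real form with given coordinates -/
def mkV (c : ℕ → F4) : V := ⟨mk fun n => if n < 10 then c n else cj 2 (c (n - 10)), isT_mk _,
  fun n hn => by rw [co_mk _ (by omega), co_mk _ (by omega), if_neg (by omega), if_pos hn,
    Nat.add_sub_cancel]⟩

theorem co_mkV (c : ℕ → F4) {n : ℕ} (hn : n < 10) : co (mkV c).1 n = c n := by
  rw [mkV, co_mk _ (by omega), if_pos hn]

theorem V_ext {T T' : V} (H : ∀ n < 10, co T.1 n = co T'.1 n) : T = T' :=
  Subtype.ext (T.2.1.ext T'.2.1 fun n hn => by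
    by_cases h : n < 10
    · exact H n h
    · obtain ⟨m, rfl⟩ : ∃ m, n = m + 10 := ⟨n - 10, by omega⟩
      rw [T.2.2 m (by omega), T'.2.2 m (by omega), H m (by omega)])

theorem card_V : Nat.card V = 2 ^ 20 := by
  have : Function.Bijective fun (T : V) (n : Fin 10) => co T.1 n :=
    ⟨fun T T' h => V_ext fun n hn => congrFun h ⟨n, hn⟩, fun c =>
      ⟨mkV fun n => if h : n < 10 then c ⟨n, h⟩ else 0, funext fun n =>
        (co_mkV _ n.2).trans (dif_pos n.2)⟩⟩
  rw [Nat.card_eq_of_bijective _ this, Nat.card_fun, F4.natCard_eq]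
  simp

theorem IsT.split {T : Tr} (h : IsT T) : ∃ a b : V, T = a.1 + F4.w • b.1 := by
  refine ⟨mkV fun n => co T n + F4.w * (co T n + cj 2 (co T (n + 10))),
    mkV fun n => co T n + cj 2 (co T (n + 10)),
    h.ext ((mkV _).2.1.add' ((mkV _).2.1.smul' _)) fun n hn => ?_⟩
  rw [co_add, co_smul]
  by_cases h : n < 10
  · rw [co_mkV _ h, co_mkV _ h, add_assoc, add_self, add_zero]
  · obtain ⟨m, rfl⟩ : ∃ m, n = m + 10 := ⟨n - 10, by omega⟩
    have hm : m < 10 := by omega
    rw [(mkV _).2.2 m hm, (mkV _).2.2 m hm, co_mkV _ hm, co_mkV _ hm]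
    generalize co T m = a, co T (m + 10) = b
    revert a b
    decide

/-- pulling a form back -/
def pull (g : Γ) (T : Tr) : Tr := fun x y z => T (g.1.1 *ᵥ x) (g.1.1 *ᵥ y) (g.1.1 *ᵥ z)

theorem IsT.pull {T : Tr} (h : IsT T) (g : Γ) : IsT (pull g T) where
  add x x' y z := by simp only [U20.pull, mulVec_add, h.add]
  smul a x y z := by simp only [U20.pull, mulVec_smul, h.smul]
  sw1 _ _ _ := h.sw1 _ _ _
  sw2 _ _ _ := h.sw2 _ _ _
  alt _ _ := h.alt _ _

theorem pull_mul (g k : Γ) (T : Tr) : pull (g * k) T = pull k (pull g T) := by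
  funext x y z
  simp only [pull, su_mul]

theorem pull_one (T : Tr) : pull 1 T = T := by
  funext x y z
  simp only [pull, su_one]

theorem co_tv {T : Tr} (h : IsT T) {v : N} {c : F4} (hv : hermForm 6 F4 2 v v = 0)
    (hc : cj 2 c = -c) (n : ℕ) : co (pull (tv 2 v c) T) n = co T n +
      c * (cj 2 (v (t1 n)) * ∑ l, v l * co T (cd l (t2 n) (t3 n)) +
        cj 2 (v (t2 n)) * ∑ l, v l * co T (cd (t1 n) l (t3 n)) +
        cj 2 (v (t3 n)) * ∑ l, v l * co T (cd (t1 n) (t2 n) l)) := by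
  simp only [← h.basis]
  rw [← h.sum1, ← h.sum2, ← h.sum3]
  simp only [co, pull, tv_mulVec hv hc, form_single_one_left, h.add, h.add2, h.add3, h.smul,
    h.smul2, h.smul3, h.alt, h.alt2, h.alt3]
  ring

theorem pull_tv {T : Tr} (h : T ∈ V) {v : N} {c : F4} (hv : hermForm 6 F4 2 v v = 0)
    (hc : cj 2 c = -c) : pull (tv 2 v c) T ∈ V := by
  refine ⟨h.1.pull _, fun n hn => ?_⟩
  rw [co_tv h.1 hv hc, co_tv h.1 hv hc]
  have a := fun n hn => h.2 n hn
  have a0 := a 0 (by norm_num)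
  have a1 := a 1 (by norm_num)
  have a2 := a 2 (by norm_num)
  have a3 := a 3 (by norm_num)
  have a4 := a 4 (by norm_num)
  have a5 := a 5 (by norm_num)
  have a6 := a 6 (by norm_num)
  have a7 := a 7 (by norm_num)
  have a8 := a 8 (by norm_num)
  have a9 := a 9 (by norm_num)
  have z := h.1.co20
  have hc' : cj 2 c = c := hc
  rw [form_def, Fin.sum_univ_six] at hv
  simp only [zero_add, Nat.reduceAdd] at a0 a1 a2 a3 a4 a5 a6 a7 a8 a9
  have h2 := two0
  interval_cases n <;>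
  simp only [Fin.sum_univ_six, cd, t1, t2, t3, Nat.reduceAdd, List.getD_cons_succ,
    List.getD_cons_zero, Fin.coe_ofNat_eq_mod, Nat.reduceMod, Nat.reduceMul, Nat.reducePow,
    Nat.reduceDiv, z, a0, a1, a2, a3, a4, a5, a6, a7, a8, a9,
    map_add, map_mul, cj_cj, hc', map_zero] <;> grind

theorem pull_mem (g : Γ) {T : Tr} (h : T ∈ V) : pull g T ∈ V := by
  let S : Subgroup Γ :=
    { carrier := {g | (∀ T ∈ V, pull g T ∈ V) ∧ ∀ T ∈ V, pull g⁻¹ T ∈ V}
      one_mem' := ⟨fun T h => by rwa [pull_one], fun T h => by rwa [inv_one, pull_one]⟩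
      mul_mem' := fun a b => ⟨fun T h => by rw [pull_mul]; exact b.1 _ (a.1 _ h),
        fun T h => by rw [_root_.mul_inv_rev, pull_mul]; exact a.2 _ (b.2 _ h)⟩
      inv_mem' := fun a => ⟨a.2, by rw [inv_inv]; exact a.1⟩ }
  have : S = ⊤ := eq_top_of_tv_mem (Or.inl (by norm_num)) fun w _ hw c hc =>
    ⟨fun T h => pull_tv h hw hc, fun T h => by
      rw [tv_inv]; exact pull_tv h hw (by rw [map_neg, hc])⟩
  exact (this ▸ Subgroup.mem_top g : g ∈ S).1 T h

instance instSMulV : SMul Γ V := ⟨fun g T => ⟨pull g⁻¹ T.1, pull_mem _ T.2⟩⟩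

theorem smul_val (g : Γ) (T : V) : (g • T).1 = pull g⁻¹ T.1 := rfl

instance instActV : DistribMulAction Γ V where
  one_smul T := Subtype.ext (by rw [smul_val, inv_one, pull_one])
  mul_smul a b T := Subtype.ext (by
    rw [smul_val, smul_val, smul_val, _root_.mul_inv_rev, pull_mul])
  smul_zero _ := rfl
  smul_add _ _ _ := rfl

theorem addV (T : V) : T + T = 0 := add_neg_cancel T

instance instModV : Module (ZMod 2) V := AddCommGroup.zmodModule fun T => by rw [two_nsmul, addV]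

theorem fix_iff {g : Γ} {T : V} : g • T = T ↔ pull g T.1 = T.1 := by
  rw [smul_eq_iff_eq_inv_smul, eq_comm, Subtype.ext_iff, smul_val, inv_inv]

theorem center_smul {g : Γ} (hg : g ∈ Subgroup.center Γ) (T : V) : g • T = T := by
  obtain ⟨a, ha⟩ := (mem_center_SU_iff (by norm_num)).1 hg
  have h1 : a * cj 2 a = 1 := (isIso_smul_one_iff (n := 6) (by norm_num)).1 (ha ▸ g.2)
  rw [fix_iff]
  funext x y z
  simp only [pull, ha, smul_mulVec, one_mulVec, T.2.1.smul, T.2.1.smul2, T.2.1.smul3]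
  rw [cj_apply] at h1
  linear_combination T.1 x y z * h1

theorem eqns_Alt : True := by
  have := @cd.eq_1
  have := @t1.eq_1
  have := @t2.eq_1
  have := @t3.eq_1
  have := @co.eq_1
  have := @cf.eq_1
  have := @mk.eq_1
  have := @mkV.eq_1
  have := @pull.eq_1
  have := @V.eq_1
  trivial

end H94.U20
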