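import Mathlib
import Cfsg.Agent.Lib.U20.Alt
import Cfsg.Agent.Lib.Inv2.Linear

/-!
# Fixed points of involutions on the 20-dimensional module of `U6(2)`
-/

set_option autoImplicit false

namespace H94.U20
open Cfsg H30 H11.U Matrix

/-- the number of fixed points -/
noncomputable def nf {G : Type*} (M : Type*) [SMul G M] (g : G) : ℕ := Nat.card {v : M // g • v = v}

theorem nf_conj {G M : Type*} [Group G] [MulAction G M] (k g : G) :
    nf M (k * g * k⁻¹) = nf M g :=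
  Nat.card_congr (Equiv.subtypeEquiv (MulAction.toPerm k⁻¹) fun v => by
    simp only [MulAction.toPerm_apply, mul_smul, smul_eq_iff_eq_inv_smul k])

theorem nf_isConj {G M : Type*} [Group G] [MulAction G M] {a b : G} (h : IsConj a b) :
    nf M a = nf M b := by
  obtain ⟨c, rfl⟩ := isConj_iff.1 h
  rw [nf_conj]

/-- the image of a triple -/
def nx (π : Fin 6 → Fin 6) (n : ℕ) : ℕ := cd (π (t1 n)) (π (t2 n)) (π (t3 n))

theorem co_pull {g : Γ} {π : Fin 6 → Fin 6} (hg : ∀ i, g.1.1 *ᵥ e i = e (π i)) {T : Tr}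
    (h : IsT T) (n : ℕ) : co (pull g T) n = co T (nx π n) := by
  rw [nx, ← h.basis, ← hg, ← hg, ← hg]
  rfl

theorem nf_le {g : Γ} {π : Fin 6 → Fin 6} (hg : ∀ i, g.1.1 *ᵥ e i = e (π i)) {s r : ℕ}
    (S : Fin s → ℕ) (R : Fin r → ℕ) (hR : ∀ j, R j < 10 ∧ nx π (R j) = R j + 10)
    (H : ∀ n < 10, (∃ j, n = R j) ∨ (∃ j, S j < 10 ∧ (n = S j ∨ nx π n = S j ∨
      nx π n = S j + 10 ∨ nx π (nx π n) = S j ∨ nx π (nx π n) = S j + 10))) :
    nf V g ≤ 4 ^ s * 2 ^ r := by
  have fx : ∀ T : {v : V // g • v = v}, ∀ n, co T.1.1 n = co T.1.1 (nx π n) := fun T n => by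
    rw [← co_pull hg T.1.2.1, fix_iff.1 T.2]
  have := Nat.card_le_card_of_injective (fun T : {v : V // g • v = v} =>
    ((fun j => co T.1.1 (S j), fun j => decide (co T.1.1 (R j) = 0)) :
      (Fin s → F4) × (Fin r → Bool))) fun T T' h => Subtype.ext (V_ext fun n hn => by
    have h1 := fun j => congrFun (congrArg Prod.fst h) j
    have h2 := fun j => congrFun (congrArg Prod.snd h) j
    simp only at h1 h2
    have h3 : ∀ j, S j < 10 → co T.1.1 (S j + 10) = co T'.1.1 (S j + 10) := fun j hj => by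
      rw [T.1.2.2 _ hj, T'.1.2.2 _ hj, h1]
    rcases H n hn with ⟨j, rfl⟩ | ⟨j, hj, a | a | a | a | a⟩
    · have a := fx T (R j)
      have b := fx T' (R j)
      rw [(hR j).2, T.1.2.2 _ hn] at a
      rw [(hR j).2, T'.1.2.2 _ hn] at b
      have c := h2 j
      generalize co T.1.1 (R j) = x, co T'.1.1 (R j) = y at a b c
      revert x y
      decide
    · rw [a, h1]
    · rw [fx T, fx T', a, h1]
    · rw [fx T, fx T', a, h3 j hj]
    · rw [fx T, fx T', fx T, fx T', a, h1]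
    · rw [fx T, fx T', fx T, fx T', a, h3 j hj])
  simpa [F4.card_eq, nf] using this

theorem iso2 {i j : Fin 6} (h : i ≠ j) : hermForm 6 F4 2 (e i + e j) (e i + e j) = 0 := by
  simp [form_add_left, form_add_right, form_single_single, h, h.symm, add_self]

theorem cj1 : cj 2 (1 : F4) = -1 := by decide

theorem tv2 {i j : Fin 6} (h : i ≠ j) (k : Fin 6) :
    (tv 2 (e i + e j) 1).1.1 *ᵥ e k = e (Equiv.swap i j k) := by
  rw [tv_mulVec (iso2 h) cj1, form_add_right, form_single_single, form_single_single]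
  by_cases a : k = i
  · subst a
    simp [h, ← add_assoc, addN]
  · by_cases b : k = j
    · subst b
      simp [a, add_comm (e i), ← add_assoc, addN]
    · simp [a, b, Equiv.swap_apply_of_ne_of_ne]

theorem nf_t12 : nf V (tv 2 (e 1 + e 2) 1 : Γ) = 2 ^ 14 := by
  have hg := tv2 (i := 1) (j := 2) (by decide)
  refine le_antisymm (nf_le hg ![0, 1, 2, 3, 7, 8, 9] ![] (by simp) (by decide +kernel)) ?_
  let ρ : ℕ → Fin 7 := fun n => ([0, 1, 2, 3, 1, 2, 3, 4, 5, 6] : List (Fin 7)).getD n 0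
  have h1 : ∀ n < 10, nx (Equiv.swap 1 2) n < 10 ∧ ρ (nx (Equiv.swap 1 2) n) = ρ n := by
    decide +kernel
  have h2 : ∀ j, ∃ n < 10, ρ n = j := by decide +kernel
  have : Finite V := Nat.finite_of_card_ne_zero (by rw [card_V]; norm_num)
  have := Nat.card_le_card_of_injective (fun c : Fin 7 → F4 =>
    (⟨mkV fun n => c (ρ n), smul_eq_iff_eq_inv_smul _ |>.2 (V_ext fun n hn => by
      rw [smul_val, inv_inv, co_pull hg (mkV _).2.1, co_mkV _ hn, co_mkV _ (h1 n hn).1,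
        (h1 n hn).2])⟩ : {v : V // (tv 2 (e 1 + e 2) 1 : Γ) • v = v})) fun c c' h => funext fun j => by
      obtain ⟨n, hn, rfl⟩ := h2 j
      have := congrArg (fun T => co T.1.1 n) h
      simpa only [co_mkV _ hn] using this
  simpa [F4.card_eq, nf] using this

theorem e12_ne : (e 1 + e 2 : N) ≠ 0 := fun h => by simpa using congrFun h 1

theorem conj_t12 {v : N} (h0 : v ≠ 0) (hv : hermForm 6 F4 2 v v = 0) :
    IsConj (tv 2 (e 1 + e 2) 1 : Γ) (tv 2 v 1) := by
  obtain ⟨g, hg⟩ := exists_su_isotropic (q := 2) (by norm_num) e12_ne h0 (iso2 (by decide)) hv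
  exact isConj_iff.2 ⟨g, by rw [conj_tv, hg]⟩

theorem nf_tv {v : N} (h0 : v ≠ 0) (hv : hermForm 6 F4 2 v v = 0) :
    nf V (tv 2 v 1 : Γ) = 2 ^ 14 := by rw [← nf_isConj (conj_t12 h0 hv), nf_t12]

/-- the standard involutions -/
def sw (l : ℕ) (h : 2 * l ≤ 6) : Γ := toSU _ (H66.isIso_swapMat h) (H66.det_swapMat h)

theorem sw_e1 : ∀ i, (sw 1 (by norm_num)).1.1 *ᵥ e i = e (Equiv.swap 0 5 i) := by
  change ∀ i, H66.swapMat F4 6 1 *ᵥ e i = _
  decide +kernel

theorem sw_e2 : ∀ i, (sw 2 (by norm_num)).1.1 *ᵥ e i = e (![4, 5, 2, 3, 0, 1] i) := by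
  change ∀ i, H66.swapMat F4 6 2 *ᵥ e i = _
  decide +kernel

theorem sw_e3 : ∀ i, (sw 3 (by norm_num)).1.1 *ᵥ e i = e (![3, 4, 5, 0, 1, 2] i) := by
  change ∀ i, H66.swapMat F4 6 3 *ᵥ e i = _
  decide +kernel

theorem su_ext' {g k : Γ} (h : ∀ i, g.1.1 *ᵥ e i = k.1.1 *ᵥ e i) : g = k :=
  Subtype.ext (Subtype.ext (Matrix.ext_of_mulVec_single h))

theorem invol_cases {r : Γ} (h2 : r * r = 1) (h1 : r ≠ 1) :
    (∃ v, v ≠ 0 ∧ hermForm 6 F4 2 v v = 0 ∧ r = tv 2 v 1) ∨ nf V r ≤ 2 ^ 12 := by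
  have o : ∀ {r : Γ}, r * r = 1 → r ≠ 1 → orderOf r = 2 := fun a b =>
    orderOf_eq_prime (by rwa [sq]) b
  have a := H66.sub_one_mul_self_iff.mpr (congrArg (fun x : Γ => x.1.1) h2)
  obtain ⟨b1, b2⟩ := H66.rank_bounds a fun h => h1 (Subtype.ext (Subtype.ext h))
  have c : IsConj (sw _ b2) r := by
    refine (H66.isConj_SU_iff_rank rfl _ _ (o ?_ fun h => ?_) (o h2 h1)).2 (H66.rank_swapMat b2)
    · exact Subtype.ext (Subtype.ext (H66.sub_one_mul_self_iff.1 (H66.swapMat_sq_zero b2)))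
    · have := H66.rank_swapMat (F := F4) b2
      rw [show H66.swapMat F4 6 _ = 1 from congrArg (fun x : Γ => x.1.1) h, sub_self,
        rank_zero] at this
      omega
  generalize (r.1.1 - 1).rank = l at b1 b2 c
  obtain rfl | rfl | rfl : l = 1 ∨ l = 2 ∨ l = 3 := by omega
  · obtain ⟨g, rfl⟩ := isConj_iff.1 c
    rw [show sw 1 b2 = tv 2 (e 0 + e 5) 1 from
      su_ext' fun i => (sw_e1 i).trans (tv2 (by decide) i).symm, conj_tv]
    exact Or.inl ⟨_, su_ne_zero g fun h => by simpa using congrFun h 0,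
      by rw [su_form, iso2 (by decide)], rfl⟩
  · rw [← nf_isConj c]
    exact Or.inr (nf_le sw_e2 ![0, 2, 3, 5, 6, 7] ![] (by simp) (by decide +kernel))
  · rw [← nf_isConj c]
    exact Or.inr ((nf_le sw_e3 ![1, 2, 4] ![0, 3, 5, 9] (by decide +kernel)
      (by decide +kernel)).trans (by norm_num))

theorem nf_invol {r : Γ} (h2 : r * r = 1) (h1 : r ≠ 1) : nf V r ≤ 2 ^ 14 := by
  rcases invol_cases h2 h1 with ⟨v, h0, hv, rfl⟩ | h
  · exact (nf_tv h0 hv).le
  · exact h.trans (by norm_num)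

theorem tv_sq {v : N} (hv : hermForm 6 F4 2 v v = 0) : (tv 2 v 1 : Γ) * tv 2 v 1 = 1 := by
  rw [tv_mul hv cj1 cj1, add_self, tv_zero]

theorem tv_smul1 {v : N} (hv : hermForm 6 F4 2 v v = 0) {a : F4} (ha : a ≠ 0) :
    (tv 2 (a • v) 1 : Γ) = tv 2 v 1 := by
  rw [tv_smul hv cj1, (by decide : ∀ a : F4, a ≠ 0 → a * cj 2 a * 1 = 1) a ha]

theorem tv_eq_of_nf {v v' : N} (h0 : v ≠ 0) (hv : hermForm 6 F4 2 v v = 0) (h0' : v' ≠ 0)
    (hv' : hermForm 6 F4 2 v' v' = 0) (h : 2 ^ 14 ≤ nf V (tv 2 v 1 * tv 2 v' 1 : Γ)) :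
    (tv 2 v 1 : Γ) = tv 2 v' 1 := by
  by_contra hne
  have ind : ∀ a : F4, v ≠ a • v' := fun a ha => by
    by_cases b : a = 0
    · exact h0 (by rw [ha, b, zero_smul])
    · exact hne (by rw [ha, tv_smul1 hv' b])
  have ind' : ∀ a : F4, v' ≠ a • v := fun a ha => by
    by_cases b : a = 0
    · exact h0' (by rw [ha, b, zero_smul])
    · exact hne (by rw [ha, tv_smul1 hv b])
  by_cases c : hermForm 6 F4 2 v' v = 0
  · have f : ∀ x, (tv 2 v 1 * tv 2 v' 1 : Γ).1.1 *ᵥ x =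
        x + hermForm 6 F4 2 x v • v + hermForm 6 F4 2 x v' • v' := fun x => by
      rw [su_mul, tv_mulVec hv cj1, tv_mulVec hv' cj1, form_add_left, form_smul_left, c]
      simp [add_right_comm]
    have g2 : (tv 2 v 1 * tv 2 v' 1 : Γ) * (tv 2 v 1 * tv 2 v' 1) = 1 := su_ext fun x => by
      rw [su_mul, f, f, su_one]
      simp only [form_add_left, form_smul_left, hv, hv', c, form_eq_zero_symm c, mul_zero, add_zero]
      rw [add_right_comm (x + _) (_ • v'), add_assoc x, addN, add_zero, add_assoc, addN, add_zero]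
    have g1 : (tv 2 v 1 * tv 2 v' 1 : Γ) ≠ 1 := fun a =>
      hne ((eq_inv_of_mul_eq_one_left a).trans (inv_eq_of_mul_eq_one_left (tv_sq hv')))
    rcases invol_cases g2 g1 with ⟨u, u0, hu, a⟩ | a
    · obtain ⟨x, x1, x2⟩ := exists_perp_not_perp (q := 2) h0' ind
      obtain ⟨y, y1, y2⟩ := exists_perp_not_perp (q := 2) h0 ind'
      have a1 := f x
      have a2 := f y
      rw [a, tv_mulVec hu cj1] at a1 a2
      rw [form_eq_zero_symm x1, zero_smul, add_zero, add_right_inj] at a1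
      rw [form_eq_zero_symm y1, zero_smul, add_zero, add_right_inj] at a2
      have b1 := form_ne_zero_symm x2
      have b2 := form_ne_zero_symm y2
      generalize hermForm 6 F4 2 x v = p, hermForm 6 F4 2 y v' = p', 1 * hermForm 6 F4 2 x u = d,
        1 * hermForm 6 F4 2 y u = d' at a1 a2 b1 b2
      have d0 : d' ≠ 0 := by
        rintro rfl
        rw [zero_smul, eq_comm, smul_eq_zero] at a2
        exact a2.elim b2 h0'
      refine ind (p⁻¹ * d * d'⁻¹ * p') ?_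
      rw [mul_smul, ← a2, smul_smul, inv_mul_cancel_right₀ d0, mul_smul, a1, inv_smul_smul₀ b1]
    · omega
  · obtain ⟨g, a, b⟩ := exists_su_pair (q := 2) (by norm_num) c hv hv' (iso2 (i := 0) (j := 1)
      (by decide)) (v' := hermForm 6 F4 2 v' v • (e 1 + e 2))
      (by rw [form_smul_left, form_smul_right, iso2 (by decide), mul_zero, mul_zero]) rfl
      (by simp [form_smul_left, form_add_left, form_add_right, form_single_single])
    rw [← nf_conj g, show g * (tv 2 v 1 * tv 2 v' 1) * g⁻¹ =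
      g * tv 2 v 1 * g⁻¹ * (g * tv 2 v' 1 * g⁻¹) by group, conj_tv, conj_tv, a, b,
      tv_smul1 (iso2 (by decide)) c] at h
    have := nf_le (g := tv 2 (e 0 + e 1) 1 * tv 2 (e 1 + e 2) 1)
      (π := fun i => Equiv.swap 0 1 (Equiv.swap 1 2 i))
      (fun i => by rw [su_mul, tv2 (by decide), tv2 (by decide)]) ![0, 1, 2, 3] ![] (by simp)
      (by decide +kernel)
    omega

theorem eqns_Fix : True := by
  have := @nf.eq_1.{0, 0}
  have := @nx.eq_1
  have := @sw.eq_1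
  trivial

end H94.U20
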