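import Mathlib
import Cfsg.Agent.Lib.U20.Alt
import Cfsg.Agent.Lib.Forms.Witt
import Cfsg.Agent.Lib.Forms.Perp

/-!
# Nearly quadratic elementary abelian subgroups of `SU6(2)` on the 20-dimensional module are small
-/

set_option autoImplicit false

namespace H94.U20
open Cfsg H30 H11.U Matrix H28

/-- the double commutator -/
def Dl (r s : Γ) (T : Tr) : Tr := pull (r * s) T + pull r T + pull s T + T

/-- the double commutator has rank at most one -/
def Rk (r s : Γ) : Prop := ∀ T T', IsT T → IsT T' → ∀ x y z x' y' z',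
  Dl r s T x y z * Dl r s T' x' y' z' = Dl r s T x' y' z' * Dl r s T' x y z

theorem rk_of {r s : Γ} (hr : r * r = 1) (hs : s * s = 1) (h : r * s * (r * s) = 1) {w : V}
    (H : ∀ a : V, r • s • a + r • a + s • a + a = 0 ∨ r • s • a + r • a + s • a + a = w) :
    Rk r s := by
  have h1 : ∀ a : V, ∃ c : F4, Dl r s a.1 = c • w.1 := fun a => by
    have : Dl r s a.1 = (r • s • a + r • a + s • a + a).1 := by
      simp only [smul_smul, AddSubgroup.coe_add, smul_val, inv_eq_of_mul_eq_one_left hr,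
        inv_eq_of_mul_eq_one_left hs, inv_eq_of_mul_eq_one_left h, Dl]
    rcases H a with b | b <;> rw [this, b]
    exacts [⟨0, by simp⟩, ⟨1, by simp⟩]
  have h2 : ∀ T, IsT T → ∃ c : F4, Dl r s T = c • w.1 := fun T hT => by
    obtain ⟨a, b, rfl⟩ := hT.split
    obtain ⟨c, hc⟩ := h1 a
    obtain ⟨d, hd⟩ := h1 b
    refine ⟨c + F4.w * d, ?_⟩
    rw [add_smul, mul_smul, ← hc, ← hd]
    funext x y z
    simp only [Dl, pull, Pi.add_apply, Pi.smul_apply, smul_eq_mul]
    ring
  intro T T' hT hT' x y z x' y' z'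
  obtain ⟨c, hc⟩ := h2 T hT
  obtain ⟨d, hd⟩ := h2 T' hT'
  simp only [hc, hd, Pi.smul_apply, smul_eq_mul]
  ring

/-- the product of three linear forms -/
def wedge (α β γ : N →ₗ[F4] F4) : Tr := fun x y z => α x * β y * γ z + α x * β z * γ y +
  α y * β x * γ z + α y * β z * γ x + α z * β x * γ y + α z * β y * γ x

theorem isT_wedge (α β γ : N →ₗ[F4] F4) : IsT (wedge α β γ) where
  add x x' y z := by simp only [wedge, map_add]; ring
  smul a x y z := by simp only [wedge, map_smul, smul_eq_mul]; ring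
  sw1 x y z := by simp only [wedge]; ring
  sw2 x y z := by simp only [wedge]; ring
  alt x z := by
    simp only [wedge]
    linear_combination (α x * β x * γ z + α x * β z * γ x + α z * β x * γ x) * two0

/-- the nilpotent part -/
def rh (r : Γ) (x : N) : N := r.1.1 *ᵥ x + x

theorem act_eq (r : Γ) (x : N) : r.1.1 *ᵥ x = x + rh r x := by
  rw [rh, add_comm _ x, ← add_assoc, addN, zero_add]

theorem rh_add (r : Γ) (x y : N) : rh r (x + y) = rh r x + rh r y := by
  simp only [rh, mulVec_add]; abel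

theorem rh_smul (r : Γ) (c : F4) (x : N) : rh r (c • x) = c • rh r x := by
  simp only [rh, mulVec_smul, smul_add]

theorem rh_zero (r : Γ) : rh r 0 = 0 := by simp [rh]

theorem rh_rh {r : Γ} (hr : r * r = 1) (x : N) : rh r (rh r x) = 0 := by
  rw [rh, rh, mulVec_add, ← su_mul, hr, su_one, add_comm x, addN]

theorem rh_comm {r s : Γ} (h : r * s = s * r) (x : N) : rh r (rh s x) = rh s (rh r x) := by
  simp only [rh, mulVec_add, ← su_mul, h]; abel

theorem rh_adj {r : Γ} (hr : r * r = 1) (x y : N) :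
    hermForm 6 F4 2 (rh r x) y = hermForm 6 F4 2 x (rh r y) := by
  rw [rh, rh, form_add_left, form_add_right, su_form_left, inv_eq_of_mul_eq_one_left hr]

theorem exists_dual {f u v w : N} (li : LinearIndependent F4 ![f, u, v, w]) :
    ∃ (a b : N) (c : Fin 6 → N →ₗ[F4] F4),
      ∀ i j, c i (![a, b, f, u, v, w] j) = if i = j then 1 else 0 := by
  obtain ⟨b, hb⟩ := exists_linearIndependent_cons_of_lt_finrank li (by simp)
  obtain ⟨a, ha⟩ := exists_linearIndependent_cons_of_lt_finrank hb (by simp)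
  let B := basisOfLinearIndependentOfCardEqFinrank ha (by simp)
  refine ⟨a, b, B.coord, fun i j => ?_⟩
  have : ![a, b, f, u, v, w] j = B j := by
    rw [coe_basisOfLinearIndependentOfCardEqFinrank]; rfl
  rw [this, Module.Basis.coord_apply, Module.Basis.repr_self, Finsupp.single_apply]
  simp only [eq_comm]

theorem Rk.quad {r s : Γ} (H : Rk r s) (hr : r * r = 1) (hs : s * s = 1) (h : r * s = s * r)
    (f : N) : rh r (rh s f) = 0 := by
  by_contra h0
  have a1 := rh_rh hr f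
  have a2 := rh_rh hs f
  have a3 := rh_rh hr (rh s f)
  have a4 := (rh_comm h f).symm
  have a5 : rh s (rh r (rh s f)) = 0 := by rw [← rh_comm h, a2, rh_zero]
  obtain ⟨w, hw⟩ : ∃ w, rh r (rh s f) = w := ⟨_, rfl⟩
  rw [hw] at h0 a3 a4 a5
  obtain ⟨u, hu⟩ : ∃ u, rh r f = u := ⟨_, rfl⟩
  obtain ⟨v, hv⟩ : ∃ v, rh s f = v := ⟨_, rfl⟩
  rw [hu] at a1 a4
  rw [hv] at a2 hw
  have li : LinearIndependent F4 ![f, u, v, w] := by
    rw [Fintype.linearIndependent_iff]
    intro g hg
    rw [Fin.sum_univ_four] at hg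
    simp only [cons_val_zero, cons_val_one, cons_val] at hg
    have b1 := congrArg (rh r) hg
    have b2 := congrArg (rh s) hg
    simp only [rh_add, rh_smul, rh_zero, hu, hv, hw, a1, a2, a3, a4, a5, smul_zero,
      add_zero] at b1 b2
    have b0 := congrArg (rh s) b1
    simp only [rh_add, rh_smul, rh_zero, a4, a5, smul_zero, add_zero, smul_eq_zero, h0,
      or_false] at b0
    simp only [b0, zero_smul, zero_add, smul_eq_zero, h0, or_false] at b1 b2 hg
    simp only [b1, b2, zero_smul, zero_add, smul_eq_zero, h0, or_false] at hg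
    intro i
    fin_cases i <;> assumption
  obtain ⟨a, b, c, hc⟩ := exists_dual li
  have g2 : ∀ x, (r * s).1.1 *ᵥ ((r * s).1.1 *ᵥ x) = x := fun x => by
    rw [← su_mul, mul_assoc, ← mul_assoc s, ← h, mul_assoc, hs, mul_one, hr, su_one]
  have := H _ _ (isT_wedge (c 5) (c 0) (c 1)) (isT_wedge (c 3) (c 4) (c 5)) f u v f
    ((r * s).1.1 *ᵥ a) ((r * s).1.1 *ᵥ b)
  simp only [Dl, pull, Pi.add_apply, g2] at this
  generalize (r * s).1.1 *ᵥ a = a', (r * s).1.1 *ᵥ b = b' at this
  generalize r.1.1 *ᵥ a' = a'', r.1.1 *ᵥ b' = b'', s.1.1 *ᵥ a' = a''', s.1.1 *ᵥ b' = b''' at this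
  have c0 := fun i => hc i 0
  have c1 := fun i => hc i 1
  have c2 := fun i => hc i 2
  have c3 := fun i => hc i 3
  have c4 := fun i => hc i 4
  have c5 := fun i => hc i 5
  simp only [cons_val_zero, cons_val_one, cons_val] at c0 c1 c2 c3 c4 c5
  simp only [su_mul] at this
  simp [act_eq, rh_add, hu, hv, hw, a1, a2, a3, a4, a5, wedge, c0, c1, c2, c3, c4, c5,
    add_self] at this

theorem exists_frame {s : Set N} (hs : ∀ x ∈ s, ∀ y ∈ s, hermForm 6 F4 2 x y = 0) :
    ∃ E F : Fin 3 → N, (∀ i j, hermForm 6 F4 2 (E i) (E j) = 0) ∧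
      (∀ i j, hermForm 6 F4 2 (E i) (F j) = if i = j then 1 else 0) ∧
      ∀ x ∈ s, x = ∑ i, hermForm 6 F4 2 x (F i) • E i := by
  let P := PQ.ofHerm (σ := cj 2) cj_cj F4.w (by decide) (sesq 6 F4 2) fun x y => cj_form y x
  have hP : P.B.SeparatingLeft := sesq_nondegenerate.1
  let ε : Fin 3 → N := fun i => e (i.castAdd 3) + e (i.natAdd 3)
  have e1 : ∀ i j, hermForm 6 F4 2 (ε i) (ε j) = 0 := by decide +kernel
  have e2 : ∀ i j, hermForm 6 F4 2 (ε i) (e (j.castAdd 3)) = if i = j then 1 else 0 := by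
    decide +kernel
  have li : LinearIndependent F4 ε := by
    rw [Fintype.linearIndependent_iff]
    intro g hg i
    have := congrArg (formL 2 (e (i.castAdd 3))) hg
    simpa [formL_apply, e2, form_zero_left] using this
  have t1 : P.TotSing (Submodule.span F4 s) :=
    P.totSing_span (fun x hx => PQ.ofHerm_q_mem.2 (hs x hx x hx)) fun x hx y hy => hs y hy x hx
  have t2 : P.TotSing (Submodule.span F4 (Set.range ε)) :=
    P.totSing_span (by rintro _ ⟨i, rfl⟩; exact PQ.ofHerm_q_mem.2 (e1 i i))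
      (by rintro _ ⟨i, rfl⟩ _ ⟨j, rfl⟩; exact e1 j i)
  obtain ⟨g, hg, hle⟩ := t1.exists_isom_map_le hP t2 (by
    have := t1.two_mul_finrank_le hP
    rw [finrank_span_eq_card li]
    simp only [Module.finrank_fintype_fun_eq_card, Fintype.card_fin] at this ⊢
    omega)
  have hg' : ∀ x y, hermForm 6 F4 2 (g.symm x) (g.symm y) = hermForm 6 F4 2 x y := fun x y => by
    have := hg.1 (g.symm y) (g.symm x)
    rw [g.apply_symm_apply, g.apply_symm_apply] at this
    exact this.symm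
  refine ⟨fun i => g.symm (ε i), fun j => g.symm (e (j.castAdd 3)), fun i j => by rw [hg', e1],
    fun i j => by rw [hg', e2], fun x hx => ?_⟩
  obtain ⟨c, hc⟩ := (Submodule.mem_span_range_iff_exists_fun F4).1
    (hle ⟨x, Submodule.subset_span hx, rfl⟩)
  have hx' : x = g.symm (∑ i, c i • ε i) := by rw [hc]; simp
  have : ∀ i, hermForm 6 F4 2 x (g.symm (e (i.castAdd 3))) = c i := fun i => by
    rw [hx', hg', ← formL_apply]
    simp [formL_apply, e2]
  simp only [this]
  rw [hx']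
  simp

theorem card_le_eight (S : Subgroup Γ) (h2 : ∀ r ∈ S, r * r = 1)
    (H : ∀ r ∈ S, ∀ s ∈ S, Rk r s) : Nat.card S ≤ 8 := by
  have cm : ∀ r ∈ S, ∀ s ∈ S, r * s = s * r := fun r hr s hs => by
    rw [← inv_eq_of_mul_eq_one_left (h2 _ (mul_mem hr hs)), _root_.mul_inv_rev,
      inv_eq_of_mul_eq_one_left (h2 r hr), inv_eq_of_mul_eq_one_left (h2 s hs)]
  have qd : ∀ r ∈ S, ∀ s ∈ S, ∀ x, rh r (rh s x) = 0 := fun r hr s hs =>
    (H r hr s hs).quad (h2 r hr) (h2 s hs) (cm r hr s hs)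
  obtain ⟨E, F, hE, hF, hs⟩ := exists_frame (s := {y | ∃ r ∈ S, ∃ x, y = rh r x}) (by
    rintro _ ⟨r, hr, x, rfl⟩ _ ⟨s, hs, y, rfl⟩
    rw [rh_adj (h2 r hr), qd r hr s hs, form_zero_right])
  have hs' : ∀ r ∈ S, ∀ x, rh r x = ∑ i, hermForm 6 F4 2 (rh r x) (F i) • E i := fun r hr x =>
    hs _ ⟨r, hr, x, rfl⟩
  have rE : ∀ r ∈ S, ∀ x i, hermForm 6 F4 2 (rh r x) (E i) = 0 := fun r hr x i => by
    rw [hs' r hr, ← formL_apply]
    simp [formL_apply, hE]
  have Er : ∀ r ∈ S, ∀ i, rh r (E i) = 0 := fun r hr i => eq_zero_of_form_eq_zero (q := 2) fun y => by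
    rw [rh_adj (h2 r hr), form_eq_zero_symm (rE r hr y i)]
  obtain ⟨M, hM⟩ : ∃ M : Γ → Fin 3 → Fin 3 → F4, ∀ r i j,
    hermForm 6 F4 2 (rh r (F j)) (F i) = M r i j := ⟨_, fun _ _ _ => rfl⟩
  have rm : ∀ r ∈ S, ∀ s ∈ S, ∀ x, rh (r * s) x = rh r x + rh s x := fun r hr s hs x => by
    rw [rh, su_mul, act_eq s, act_eq r, rh_add, qd r hr s hs, add_zero, add_comm, ← add_assoc,
      ← add_assoc, addN, zero_add, add_comm]
  have M1 : ∀ r ∈ S, ∀ s ∈ S, ∀ i j, M (r * s) i j = M r i j + M s i j := fun r hr s hs i j => by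
    rw [← hM, rm r hr s hs, form_add_left, hM, hM]
  have M2 : ∀ r ∈ S, ∀ i j, M r j i = cj 2 (M r i j) := fun r hr i j => by
    rw [← hM, ← hM, cj_form, rh_adj (h2 r hr)]
  have M3 : ∀ r ∈ S, (∀ i j, M r i j = 0) → r = 1 := fun r hr h => su_ext fun y => by
    have : ∀ j, rh r (F j) = 0 := fun j => by
      rw [hs' r hr]
      simp [hM, h]
    rw [act_eq, su_one, hs' r hr]
    simp [rh_adj (h2 r hr), this, form_zero_right]
  have X : ∀ r ∈ S, ∀ s ∈ S, ∀ i j k l, M r k i * M s l j + M r l i * M s k j +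
      M s k i * M r l j + M s l i * M r k j = 0 := by
    intro r hr s hs i j k l
    have h2 := two0
    by_cases a : i = j
    · subst a
      grind
    by_cases b : k = l
    · subst b
      grind
    obtain ⟨m, m1, m2⟩ := (by decide : ∀ i j : Fin 3, ∃ m, i ≠ m ∧ j ≠ m) i j
    obtain ⟨n, n1, n2⟩ := (by decide : ∀ i j : Fin 3, ∃ m, i ≠ m ∧ j ≠ m) k l
    have := H r hr s hs _ _ (isT_wedge (formL 2 (F k)) (formL 2 (F l)) (formL 2 (E m)))
      (isT_wedge (formL 2 (F k)) (formL 2 (F l)) (formL 2 (F n))) (F i) (F j) (F m) (F i) (F j) (E n)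
    have hF' : ∀ i j, hermForm 6 F4 2 (F j) (E i) = if i = j then 1 else 0 := fun i j => by
      rw [form_swap, hF]
      split_ifs <;> simp
    simp only [Dl, pull, Pi.add_apply, act_eq, rm r hr s hs, Er r hr, Er s hs, wedge, formL_apply,
      form_add_left, hM, rE r hr, rE s hs, hE, hF, hF', m1.symm, m2.symm, n1.symm, n2.symm, if_true,
      if_false, add_zero, mul_zero, zero_mul, mul_one, zero_add] at this
    rw [← mul_self_eq_zero]
    grind
  by_contra hlt
  have dg : ∀ r ∈ S, ∀ s ∈ S, ∀ i, decide (M r i i = 0) = decide (M s i i = 0) →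
      M (r * s) i i = 0 := fun r hr s hs i h => by
    have a := M2 r hr i i
    have b := M2 s hs i i
    rw [M1 r hr s hs]
    generalize M r i i = x, M s i i = y at a b h
    revert x y
    decide
  have pg : ∀ φ : S → Bool × Bool × Bool, ∃ r s, r ≠ s ∧ φ r = φ s := fun φ => by
    by_contra! h
    have := Nat.card_le_card_of_injective φ fun r s a => by_contra fun b => h r s b a
    simp at this
    omega
  have ne1 : ∀ r s : S, r ≠ s → (r * s : Γ) ≠ 1 := fun r s h a =>
    h (Subtype.ext ((eq_inv_of_mul_eq_one_left a).trans (inv_eq_of_mul_eq_one_left (h2 _ s.2))))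
  obtain ⟨r, s, a, b⟩ := pg fun r => (decide (M r 0 0 = 0), decide (M r 1 1 = 0), decide (M r 2 2 = 0))
  have t1 := ne1 r s a
  have t2 := mul_mem r.2 s.2
  have t3 : ∀ i, M (r * s) i i = 0 := fun i => by
    simp only [Prod.mk.injEq] at b
    fin_cases i
    exacts [dg _ r.2 _ s.2 _ b.1, dg _ r.2 _ s.2 _ b.2.1, dg _ r.2 _ s.2 _ b.2.2]
  generalize (r * s : Γ) = t at t1 t2 t3
  obtain ⟨i, j, hij⟩ : ∃ i j, M t i j ≠ 0 := by
    by_contra! h
    exact t1 (M3 t t2 h)
  have ij : i ≠ j := by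
    rintro rfl
    exact hij (t3 i)
  obtain ⟨k, hk⟩ := (by decide : ∀ i j : Fin 3, i ≠ j → ∃ k, ∀ x, x = i ∨ x = j ∨ x = k) i j ij
  obtain ⟨p, q, c, d⟩ := pg fun r => (decide (M r i i = 0), decide (M r j j = 0), decide (M r i j = 0))
  simp only [Prod.mk.injEq] at d
  have u2 := mul_mem p.2 q.2
  have hji : M t j i ≠ 0 := by rw [M2 t t2]; exact cj_ne_zero.2 hij
  have u3 := dg _ p.2 _ q.2 _ d.1
  have u4 := dg _ p.2 _ q.2 _ d.2.1
  have u5 : M (p * q) i j = 0 := by
    have a := X t t2 _ p.2 i j i j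
    have b := X t t2 _ q.2 i j i j
    have d' := d.2.2
    rw [t3, t3, M2 t t2 i j, M2 _ p.2 i j] at a
    rw [t3, t3, M2 t t2 i j, M2 _ q.2 i j] at b
    simp only [zero_mul, mul_zero, zero_add, add_zero] at a b
    rw [M1 _ p.2 _ q.2]
    generalize M t i j = x, M p i j = y, M q i j = z at a b d' hij
    revert x y z
    decide
  refine ne1 p q c (M3 _ u2 ?_)
  generalize (p * q : Γ) = u at u2 u3 u4 u5
  have z : ∀ {i j}, M u i j = 0 → M u j i = 0 := fun h => by rw [M2 u u2, h, map_zero]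
  have u6 : M u i k = 0 := by simpa [t3, u3, u5, z u5, hji] using X t t2 u u2 i k i j
  have u7 : M u j k = 0 := by simpa [t3, u4, u5, z u5, hij] using X t t2 u u2 j k i j
  have u8 : M u k k = 0 := by simpa [t3, u5, z u7, u6, hij] using X t t2 u u2 j k i k
  intro x y
  rcases hk x with rfl | rfl | rfl <;> rcases hk y with rfl | rfl | rfl
  exacts [u3, u5, u6, z u5, u4, u7, z u6, z u7, u8]

theorem eqns_Quad : True := by
  have := @Dl.eq_1
  have := @Rk.eq_1
  have := @wedge.eq_1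
  have := @rh.eq_1
  trivial

end H94.U20
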