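import Mathlib
import Cfsg.Agent.Lib.U20.Fix
import Cfsg.Agent.Lib.U20.Quad
import Cfsg.Agent.Lib.ERec.ModNf

/-!
# Modules of order `2^20` for `U6(2)`: the facts used for strongly 3-embedded normalisers
-/

set_option autoImplicit false

namespace H94.U20
open Cfsg H30 H11.U Matrix H96.EMod
open H96.BMod (Quad)

/-- the simple group -/
abbrev P : Type := PSU 6 F4 2

/-- the projection -/
abbrev mkP : Γ →* P := QuotientGroup.mk' _

theorem simpleP : IsSimpleGroup P := isSimpleGroup_PSU (by norm_num) (by norm_num)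

theorem mkP_surj (p : P) : ∃ g, mkP g = p := QuotientGroup.mk'_surjective _ p

theorem mkP_eq_one {g : Γ} : mkP g = 1 ↔ g ∈ Subgroup.center Γ := QuotientGroup.eq_one_iff g

theorem cube_center {g : Γ} (h : g ∈ Subgroup.center Γ) : g ^ 3 = 1 := by
  have := pow_card_eq_one' (x := (⟨g, h⟩ : Subgroup.center Γ))
  rw [card_center_SU (by norm_num)] at this
  exact congrArg Subtype.val this

theorem lift_invol {p : P} (h : p * p = 1) : ∃ r, mkP r = p ∧ r * r = 1 := by
  obtain ⟨g, rfl⟩ := mkP_surj p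
  refine ⟨g ^ 3, by rw [map_pow, pow_succ, sq, h, one_mul], ?_⟩
  rw [← (Commute.refl g).mul_pow, cube_center (mkP_eq_one.1 (by rwa [map_mul]))]

theorem sq_mul {r s : Γ} (hr : r * r = 1) (hs : s * s = 1)
    (h : mkP r * mkP s * (mkP r * mkP s) = 1) : r * s * (r * s) = 1 := by
  have a : r * s * (r * s) ∈ Subgroup.center Γ := mkP_eq_one.1 (by simpa only [map_mul] using h)
  have b := cube_center a
  have c : r * s * (r * s) * (r * s * (r * s)) = 1 := by
    have d := Subgroup.mem_center_iff.1 a r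
    calc r * s * (r * s) * (r * s * (r * s)) = r * s * (r * s) * r * (s * r * s) := by group
      _ = r * (r * s * (r * s)) * (s * r * s) := by rw [d]
      _ = r * r * (s * (r * (s * s) * r) * s) := by group
      _ = 1 := by rw [hs, mul_one, hr, mul_one, hs, mul_one]
  rwa [pow_succ, sq, c, one_mul] at b

/-- the action of the simple group -/
def thP : P →* AddMonoid.End V :=
  QuotientGroup.lift _ (DistribMulAction.toAddMonoidEnd Γ V) fun _ hg =>
    AddMonoidHom.ext (center_smul hg)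

theorem nf_one : nf V (1 : Γ) = 2 ^ 20 := by
  rw [← card_V]
  exact Nat.card_congr (Equiv.subtypeUnivEquiv (one_smul _))

theorem ident0 {M : Type*} [AddCommGroup M] [Module (ZMod 2) M] [DistribMulAction P M]
    (hc : Nat.card M = 2 ^ 20) (hn : ∃ (p : P) (v : M), p • v ≠ v) (φ : L1 ≃* P) :
    (∃ T : WW ≃+ M, (∀ (g : L1) u, T (g • u) = φ g • T u) ∧ ∀ D : M → ZMod 2, Quad D →
      (∀ (g : P) v, D (g • v) = D v) → (∃ v, D v ≠ 0) → ∀ u, D (T u) = qW u) ∧
    ∀ v : M, φ (sx 0) • v = v → φ (sx 3) • v = v → v = 0 := by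
  let _ : DistribMulAction L1 M := DistribMulAction.compHom M φ.toMonoidHom
  obtain ⟨v, hv⟩ : ∃ v : M, sx 0 • v ≠ v := by
    by_contra! h
    have := simpleP
    obtain ⟨p, w, hw⟩ := hn
    rcases (MulAction.toPermHom P M).normal_ker.eq_bot_or_eq_top with a | a
    · have : φ (sx 0) ∈ (MulAction.toPermHom P M).ker := Equiv.ext h
      rw [a, Subgroup.mem_bot, φ.map_eq_one_iff] at this
      exact sx_ne this
    · have : p ∈ (MulAction.toPermHom P M).ker := a ▸ Subgroup.mem_top p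
      exact hw (DFunLike.congr_fun this w)
  obtain ⟨T, h1, h2⟩ := exists_equiv hc hv
  obtain ⟨β, B⟩ := exists_fr rels_sx hc hv
  exact ⟨⟨T, h1, fun D a b => h2 D a fun g => b _⟩, fun v => B.no_fix⟩

theorem ident {M : Type*} [AddCommGroup M] [Module (ZMod 2) M] [DistribMulAction P M]
    (hc : Nat.card M = 2 ^ 20) (hn : ∃ (p : P) (v : M), p • v ≠ v) :
    (∃ T : V ≃+ M, ∀ (g : Γ) u, T (g • u) = mkP g • T u) ∧
    (∃ q : M → ZMod 2, Quad q ∧ (∀ (g : P) v, q (g • v) = q v) ∧ (∃ v, q v ≠ 0) ∧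
      ∀ D : M → ZMod 2, Quad D → (∀ (g : P) v, D (g • v) = D v) → (∃ v, D v ≠ 0) →
        ∀ u, D u = q u) ∧
    ∃ x y : P, x ^ 3 = 1 ∧ y ^ 3 = 1 ∧ x * y = y * x ∧ ∀ v : M, x • v = v → y • v = v → v = 0 := by
  obtain ⟨φ⟩ := Agent.S1577.base
  obtain ⟨⟨T, h1, h2⟩, h3⟩ := ident0 hc hn φ
  refine ⟨?_, ⟨fun v => qW (T.symm v), fun a b c => ?_, fun g v => ?_, ?_, fun D a b c u => ?_⟩,
    φ (sx 0), φ (sx 3), ?_, ?_, ?_, h3⟩
  · let _ : DistribMulAction P V := DistribMulAction.compHom V thP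
    obtain ⟨⟨T', h1', -⟩, -⟩ := ident0 (M := V) card_V (by
      by_contra! h
      have := nf_t12
      have h' : ∀ (g : Γ) (v : V), g • v = v := fun g => h (mkP g)
      rw [nf, Nat.card_congr (Equiv.subtypeUnivEquiv (h' _)), card_V] at this
      omega) φ
    refine ⟨T'.symm.trans T, fun g u => ?_⟩
    obtain ⟨u, rfl⟩ := T'.surjective u
    obtain ⟨k, hk⟩ := φ.surjective (mkP g)
    have : g • T' u = T' (k • u) := by rw [h1', hk]; rfl
    simp only [this, AddEquiv.trans_apply, AddEquiv.symm_apply_apply, h1, hk]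
  · simp only [map_add]
    exact quad_qW _ _ _
  · obtain ⟨k, rfl⟩ := φ.surjective g
    obtain ⟨u, rfl⟩ := T.surjective v
    obtain ⟨w, rfl⟩ := mkW_surj u
    simp only [← h1, AddEquiv.symm_apply_apply]
    rw [smul_mkW, qW_mkW, qW_mkW, H96.BMod.nq, H96.BMod.nq, H16.sqNorm_co0]
  · refine ⟨T (mkW ⟨_, pq_v⟩), ?_⟩
    simp only [AddEquiv.symm_apply_apply]
    rw [qW_mkW, Ne, H96.BMod.nq_eq_zero, code_v.norm]
    decide +kernel
  · exact (congrArg D (T.apply_symm_apply u)).symm.trans (h2 D a b c _)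
  · rw [← map_pow, pow_succ, sq, rels_sx.cube 0 (by norm_num), map_one]
  · rw [← map_pow, pow_succ, sq, rels_sx.cube 3 (by norm_num), map_one]
  · rw [← map_mul, ← map_mul, rels_sx.comm 0 (by norm_num) 3 (by norm_num)]

variable {H M : Type*} [Group H] [AddCommGroup M] [DistribMulAction H M] {ι : P →* H} {T : V ≃+ M}

theorem nf_eq (hT : ∀ (g : Γ) u, T (g • u) = ι (mkP g) • T u) (g : Γ) :
    nf M (ι (mkP g)) = nf V g :=
  (Nat.card_congr (Equiv.subtypeEquiv T.toEquiv fun v => by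
    rw [← T.injective.eq_iff, hT]; rfl)).symm

theorem card_le_nf (T : V ≃+ M) {U : AddSubgroup M} {g : H} (h : ∀ u ∈ U, g • u = u) :
    Nat.card U ≤ nf M g := by
  have : Finite V := Nat.finite_of_card_ne_zero (by rw [card_V]; norm_num)
  have : Finite M := T.finite_iff.1 this
  exact Nat.card_le_card_of_injective (fun u => (⟨u.1, h _ u.2⟩ : {v : M // g • v = v}))
    fun a b e => Subtype.ext (congrArg Subtype.val e :)

theorem commute_of_fix (hι : Function.Injective ι) (hT : ∀ (g : Γ) u, T (g • u) = ι (mkP g) • T u)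
    {σ : H} (hσ : ∀ p, ∃ p', σ * ι p * σ⁻¹ = ι p') {U : AddSubgroup M} (hU : 2 ^ 17 ≤ Nat.card U)
    (h : ∀ u ∈ U, σ • u = u) (p : P) : σ * ι p = ι p * σ := by
  have cM : Nat.card M = 2 ^ 20 := by rw [← card_V, Nat.card_congr T.toEquiv]
  have key : ∀ v, v ≠ 0 → hermForm 6 F4 2 v v = 0 →
      σ * ι (mkP (tv 2 v 1)) = ι (mkP (tv 2 v 1)) * σ := by
    intro v h0 hv
    obtain ⟨p', hp⟩ := hσ (mkP (tv 2 v 1))
    have t2 : ι (mkP (tv 2 v 1)) * ι (mkP (tv 2 v 1)) = 1 := by
      rw [← map_mul, ← map_mul, tv_sq hv, map_one, map_one]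
    obtain ⟨r, rfl, r2⟩ := lift_invol (p := p') (hι (by
      rw [map_mul, ← hp, conj_mul, t2, map_one, mul_one, mul_inv_cancel]))
    have n1 : nf V r = 2 ^ 14 := by rw [← nf_eq hT, ← hp, nf_conj, nf_eq hT, nf_tv h0 hv]
    rcases invol_cases r2 (by rintro rfl; rw [nf_one] at n1; omega) with ⟨v', h0', hv', rfl⟩ | a
    · rw [← mul_inv_eq_iff_eq_mul, hp, tv_eq_of_nf h0 hv h0' hv']
      rw [← nf_eq hT, map_mul, map_mul, ← hp]
      generalize ι (mkP (tv 2 v 1)) = t at t2
      let U' := U.comap (DistribMulAction.toAddEquiv M t).toAddMonoidHom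
      refine le_trans ?_ (card_le_nf T (U := U ⊓ U') fun u hu => ?_)
      · have i1 := U.card_mul_index
        have i2 := (U ⊓ U').card_mul_index
        have i3 : (U ⊓ U').index ≤ U.index * U'.index := AddSubgroup.index_inf_le
        have i4 : U'.index = U.index :=
          U.index_comap_of_surjective (DistribMulAction.toAddEquiv M t).surjective
        rw [cM] at i1 i2
        rw [i4] at i3
        have i5 : U.index ≤ 8 := by nlinarith
        have i6 : (U ⊓ U').index ≤ 64 := by nlinarith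
        nlinarith
      · rw [mul_smul, mul_smul, mul_smul, inv_smul_eq_iff.2 (h u hu.1).symm, h (t • u) hu.2, smul_smul,
          t2, one_smul]
    · omega
  obtain ⟨g, rfl⟩ := mkP_surj p
  have : (Subgroup.centralizer {σ}).comap (ι.comp mkP) = ⊤ :=
    eq_top_of_tv_mem (Or.inl (by norm_num)) fun w h0 hw c hc => by
      rcases (by decide : ∀ c : F4, cj 2 c = -c → c = 0 ∨ c = 1) c hc with rfl | rfl
      · rw [tv_zero]; exact one_mem _
      · exact Subgroup.mem_centralizer_singleton_iff.2 (key w h0 hw).symm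
  have m : g ∈ (Subgroup.centralizer {σ}).comap (ι.comp mkP) := this ▸ Subgroup.mem_top g
  exact (Subgroup.mem_centralizer_singleton_iff.1 m).symm

theorem eq_bot_of_quad (hT : ∀ (g : Γ) u, T (g • u) = ι (mkP g) • T u) (R : Subgroup P)
    (h2 : ∀ r ∈ R, r * r = 1) (hD : ∀ r ∈ R, ∀ s ∈ R, ∃ w : M, ∀ a : M,
      ι r • ι s • a + ι r • a + ι s • a + a = 0 ∨ ι r • ι s • a + ι r • a + ι s • a + a = w)
    {U : AddSubgroup M} (hU : ∀ r ∈ R, ∀ u ∈ U, ι r • u = u)
    (hc : 2 ^ 18 ≤ Nat.card U * Nat.card R) : R = ⊥ := by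
  let S : Subgroup Γ :=
    { carrier := {g | mkP g ∈ R ∧ g * g = 1}
      one_mem' := ⟨by rw [map_one]; exact one_mem _, one_mul 1⟩
      mul_mem' := fun a b => ⟨by rw [map_mul]; exact mul_mem a.1 b.1,
        sq_mul a.2 b.2 (h2 _ (mul_mem a.1 b.1))⟩
      inv_mem' := fun a => by rwa [inv_eq_of_mul_eq_one_left a.2] }
  have c1 : Nat.card S ≤ 8 := card_le_eight S (fun r hr => hr.2) fun r hr s hs => by
    obtain ⟨w, hw⟩ := hD _ hr.1 _ hs.1
    refine rk_of hr.2 hs.2 (mul_mem hr hs).2 (w := T.symm w) fun a => ?_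
    have := hw (T a)
    simp only [← hT, ← map_add] at this
    rwa [T.map_eq_zero_iff, ← T.eq_symm_apply] at this
  have c2 : Nat.card R ≤ Nat.card S := Nat.card_le_card_of_surjective
    (fun g : S => (⟨mkP g, g.2.1⟩ : R)) fun r => by
      obtain ⟨g, a, b⟩ := lift_invol (h2 _ r.2)
      exact ⟨⟨g, a ▸ r.2, b⟩, Subtype.ext a⟩
  rw [eq_bot_iff]
  intro r hr
  obtain ⟨g, rfl, b⟩ := lift_invol (h2 _ hr)
  by_contra hne
  have c3 := nf_invol b (by rintro rfl; exact hne (by simp))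
  have c4 := card_le_nf T (hU _ hr)
  rw [nf_eq hT] at c4
  have := Nat.mul_le_mul (c4.trans c3) (c2.trans c1)
  omega

theorem eqns_Id : True := by
  have := @thP.eq_1
  trivial

end H94.U20
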