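import Mathlib

/-!
# Families of elementary abelian subgroups with unique fixed points: dihedral arguments
-/

set_option autoImplicit false

namespace H94.U20

/-- a family of subgroups of exponent two whose elements fix just one member -/
structure TIs {Q Ω : Type*} [Group Q] [MulAction Q Ω] (S : Ω → Subgroup Q) : Prop where
  sq : ∀ ω, ∀ s ∈ S ω, s * s = 1
  fix : ∀ ω, ∀ s ∈ S ω, s • ω = ω
  eqv : ∀ (g : Q) ω, ∀ s ∈ S ω, g * s * g⁻¹ ∈ S (g • ω)
  free : ∀ ω ω', ω ≠ ω' → ∀ s ∈ S ω, s • ω' = ω' → s = 1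

theorem refl_pow {Q : Type*} [Group Q] {a r : Q} (h : a * r⁻¹ = r * a) (i : ℕ) :
    r ^ i * a * (r ^ i)⁻¹ = r ^ (2 * i) * a := by
  have : a * (r ^ i)⁻¹ = r ^ i * a := by
    rw [← inv_pow]
    exact (SemiconjBy.pow_right h i).eq
  rw [mul_assoc, this, ← mul_assoc, ← pow_add, two_mul]

namespace TIs
variable {Q Ω : Type*} [Group Q] [MulAction Q Ω] {S : Ω → Subgroup Q} (h : TIs S)
include h

theorem uniq {A : Ω} {s g : Q} (hs : s ∈ S A) (h1 : s ≠ 1) (hg : g * s = s * g) : g • A = A := by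
  by_contra e
  exact h1 (h.free _ _ (Ne.symm e) s hs (by rw [smul_smul, ← hg, mul_smul, h.fix _ _ hs]))

theorem eq_of {A B : Ω} {s : Q} (hs : s ∈ S A) (h1 : s ≠ 1) (hB : s • B = B) : A = B := by
  by_contra e
  exact h1 (h.free _ _ e s hs hB)

theorem odd [Finite Q] {A B : Ω} (hAB : A ≠ B) {a b : Q} (ha : a ∈ S A) (hb : b ∈ S B)
    (a1 : a ≠ 1) (b1 : b ≠ 1) : Odd (orderOf (a * b)) := by
  have a2 := h.sq _ _ ha
  have b2 := h.sq _ _ hb
  have ai := inv_eq_of_mul_eq_one_left a2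
  have bi := inv_eq_of_mul_eq_one_left b2
  rw [← Nat.not_even_iff_odd]
  rintro ⟨m, hm⟩
  have p := orderOf_pos (a * b)
  have z1 : (a * b) ^ m ≠ 1 := pow_ne_one_of_lt_orderOf (by omega) (by omega)
  have z2 : ((a * b) ^ m)⁻¹ = (a * b) ^ m :=
    inv_eq_of_mul_eq_one_left (by rw [← pow_add, ← hm, pow_orderOf_eq_one])
  have r1 : a * (a * b)⁻¹ = a * b * a := by rw [mul_inv_rev, ai, bi, mul_assoc]
  have r2 : b * (a * b)⁻¹ = a * b * b := by
    rw [mul_inv_rev, ai, bi, ← mul_assoc, b2, mul_assoc, b2, one_mul, mul_one]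
  have r3 : a * b * a⁻¹ * (a * b)⁻¹ = a * b * (a * b * a⁻¹) := by
    rw [mul_inv_rev, ai, bi]
    group
  have c : ∀ {x : Q}, x * (a * b)⁻¹ = a * b * x → (a * b) ^ m * x = x * (a * b) ^ m := fun {x} e => by
    have := (SemiconjBy.pow_right e m).eq
    rw [inv_pow, z2] at this
    exact this.symm
  have fA := h.uniq ha a1 (c r1)
  have fB := h.uniq hb b1 (c r2)
  obtain ⟨C, hC, y1⟩ : ∃ C, (a * b) ^ m * a ∈ S C ∧ (a * b) ^ m * a ≠ 1 := by
    rcases m.even_or_odd' with ⟨i, rfl | rfl⟩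
    · rw [← refl_pow r1]
      exact ⟨_, h.eqv _ _ _ ha, by simpa using a1⟩
    · rw [pow_succ, mul_assoc, ← ai, ← refl_pow (by rw [ai] at r3 ⊢; exact r3), ai]
      nth_rewrite 3 [← ai]
      nth_rewrite 7 [← ai]
      exact ⟨_, h.eqv _ _ _ (h.eqv _ _ _ hb), by simpa using b1⟩
  obtain rfl := h.eq_of hC y1 (B := A) (by rw [mul_smul, h.fix _ _ ha, fA])
  exact z1 (h.free _ _ hAB _ ((S C).mul_mem_cancel_right ha |>.1 hC) fB)

theorem swap [Finite Q] {A B : Ω} (hAB : A ≠ B) {a b : Q} (ha : a ∈ S A) (hb : b ∈ S B)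
    (a1 : a ≠ 1) (b1 : b ≠ 1) : ∃ C, ∃ w ∈ S C, w * a * w⁻¹ = b ∧ w • A = B ∧
      ∀ x, Commute x a → Commute x b → Commute x w := by
  obtain ⟨j, hj⟩ := h.odd hAB ha hb a1 b1
  have a2 := h.sq _ _ ha
  have ai := inv_eq_of_mul_eq_one_left a2
  have bi := inv_eq_of_mul_eq_one_left (h.sq _ _ hb)
  have r1 : a * (a * b)⁻¹ = a * b * a := by rw [mul_inv_rev, ai, bi, mul_assoc]
  have o : (a * b) ^ (2 * j + 1) = 1 := by rw [← hj, pow_orderOf_eq_one]
  have e : (a * b) ^ j * a * a * ((a * b) ^ j * a)⁻¹ = b := by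
    rw [mul_assoc _ a a, a2, mul_one, mul_inv_rev, ai, ← mul_assoc, refl_pow r1,
      eq_inv_of_mul_eq_one_left ((pow_succ (a * b) (2 * j)).symm.trans o), mul_inv_rev, ai, bi, mul_assoc, a2, mul_one]
  have m : (a * b) ^ j * a ∈ S ((a * b) ^ (j * (j + 1)) • A) := by
    have := h.eqv ((a * b) ^ (j * (j + 1))) _ _ ha
    rwa [refl_pow r1, show 2 * (j * (j + 1)) = (2 * j + 1) * j + j by ring, pow_add, pow_mul _ _ j, o,
      one_pow, one_mul] at this
  have m' := h.eqv ((a * b) ^ j * a) _ _ ha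
  rw [e] at m'
  refine ⟨_, _, m, e, h.eq_of m' b1 (h.fix _ _ hb), fun x xa xb =>
    ((xa.mul_right xb).pow_right j).mul_right xa⟩

theorem main [Finite Q] {A B : Ω} (hAB : A ≠ B) {a a' b : Q} (ha : a ∈ S A) (ha' : a' ∈ S A)
    (hb : b ∈ S B) (a1 : a ≠ 1) (a1' : a' ≠ 1) (aa : a ≠ a') (b1 : b ≠ 1) :
    ∃ C C', C ≠ C' ∧ ∃ w ∈ S C, ∃ w' ∈ S C', w • A = B ∧ w' • A = B ∧
      w' * w * a * (w' * w)⁻¹ = a' ∧ ∀ x ∈ S A, Commute (w' * w) x → x = 1 := by
  obtain ⟨C, w, hw, e, f, -⟩ := h.swap hAB ha hb a1 b1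
  obtain ⟨C', w', hw', e', f', -⟩ := h.swap hAB ha' hb a1' b1
  have wi := inv_eq_of_mul_eq_one_left (h.sq _ _ hw)
  have wi' := inv_eq_of_mul_eq_one_left (h.sq _ _ hw')
  have key : ∀ {D D' : Ω} {u u' : Q}, u ∈ S D → u' ∈ S D' → u • A = B → u' • A = B →
      D = D' → u' * u = 1 := by
    rintro D D' u u' hu hu' g g' rfl
    refine h.free D A (fun e => hAB ?_) _ (mul_mem hu' hu) ?_
    · rw [← g, ← e, h.fix _ _ hu]
    · rw [mul_smul, g, ← g', smul_smul, h.sq _ _ hu', one_smul]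
  have ne1 : ∀ {u : Q}, u • A = B → u ≠ 1 := fun g e => hAB (by rw [← g, e, one_smul])
  have t : w' * w * a * (w' * w)⁻¹ = a' := by
    rw [show w' * w * a * (w' * w)⁻¹ = w' * (w * a * w⁻¹) * w'⁻¹ by group, e, ← e', wi']
    rw [show w' * (w' * a' * w') * w' = w' * w' * a' * (w' * w') by group, h.sq _ _ hw', one_mul,
      mul_one]
  have h1 : w' * w ≠ 1 := fun g => aa (by rw [← t, g]; simp)
  have CC : C ≠ C' := fun g => h1 (key hw hw' f f' g)
  have ho := h.odd CC.symm hw' hw (ne1 f') (ne1 f)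
  have hi : w * (w' * w) * w⁻¹ = (w' * w)⁻¹ := by
    rw [mul_inv_rev, wi', mul_assoc, mul_inv_cancel_right, wi]
  have fin : (w' * w)⁻¹ ≠ w' * w := fun g => h1 (by
    have d : orderOf (w' * w) ∣ 2 := orderOf_dvd_of_pow_eq_one (by
      rw [pow_two]; nth_rewrite 1 [← g]; exact inv_mul_cancel _)
    rcases (Nat.dvd_prime Nat.prime_two).1 d with d | d
    · exact orderOf_eq_one_iff.1 d
    · rw [d] at ho
      exact absurd ho (by decide))
  refine ⟨C, C', CC, w, hw, w', hw', f, f', t, fun x hx c => by_contra fun x1 => ?_⟩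
  have hy := f ▸ h.eqv w _ _ hx
  obtain ⟨D, u, hu, -, g, cu⟩ := h.swap hAB hx hy x1 (by simpa using x1)
  have c' : Commute (w' * w) u := cu _ c (by
    have := (c.map (MulAut.conj w)).inv_left
    rwa [MulAut.conj_apply, MulAut.conj_apply, hi, inv_inv] at this)
  generalize w' * w = k at hi fin c'
  have i2 : w * u * k * (w * u)⁻¹ = k⁻¹ := by
    rw [← hi, mul_assoc w u, ← c'.eq]
    group
  by_cases e : D = C
  · rw [key hu hw g f e] at i2
    exact fin (by simpa using i2.symm)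
  · obtain ⟨j, hj⟩ := h.odd (Ne.symm e) hw hu (ne1 f) (ne1 g)
    have c2 : Commute ((w * u) ^ 2) k := by
      have : (w * u) ^ 2 * k * ((w * u) ^ 2)⁻¹ = k := by
        rw [show (w * u) ^ 2 * k * ((w * u) ^ 2)⁻¹ =
          w * u * (w * u * k * (w * u)⁻¹) * (w * u)⁻¹ by rw [pow_two]; group, i2, ← conj_inv, i2,
          inv_inv]
      exact mul_inv_eq_iff_eq_mul.1 this
    have c3 : Commute (w * u) k := by
      have := c2.pow_left (j + 1)
      rwa [← pow_mul, show 2 * (j + 1) = 2 * j + 1 + 1 by ring, pow_succ, ← hj, pow_orderOf_eq_one,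
        one_mul] at this
    exact fin (by rw [← i2, c3.eq, mul_inv_cancel_right])

end TIs

variable {X : Type*} [Group X]

/-- the conjugate of a subgroup -/
def cn (g : X) (C : Subgroup X) : Subgroup X := C.comap (MulAut.conj g⁻¹).toMonoidHom

theorem mem_cn {g x : X} {C : Subgroup X} : x ∈ cn g C ↔ g⁻¹ * x * g ∈ C := by simp [cn]

theorem cn_one (C : Subgroup X) : cn 1 C = C := by ext; simp [mem_cn]

theorem cn_mul (g k : X) (C : Subgroup X) : cn (g * k) C = cn g (cn k C) := by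
  ext; simp [mem_cn, mul_assoc]

theorem conj_mem_cn {x : X} {C : Subgroup X} (g : X) (h : x ∈ C) : g * x * g⁻¹ ∈ cn g C := by
  simpa [mem_cn, mul_assoc] using h

theorem cn_inv_cn (g : X) (C : Subgroup X) : cn g⁻¹ (cn g C) = C := by
  rw [← cn_mul, inv_mul_cancel, cn_one]

theorem cn_cn_inv (g : X) (C : Subgroup X) : cn g (cn g⁻¹ C) = C := by
  rw [← cn_mul, mul_inv_cancel, cn_one]

theorem cn_inj (g : X) {C D : Subgroup X} (h : cn g C = cn g D) : C = D := by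
  rw [← cn_inv_cn g C, h, cn_inv_cn]

theorem cn_inf (g : X) (C D : Subgroup X) : cn g (C ⊓ D) = cn g C ⊓ cn g D := rfl

theorem card_cn (g : X) (C : Subgroup X) : Nat.card (cn g C) = Nat.card C :=
  Nat.card_congr (Equiv.subtypeEquiv (MulAut.conj g⁻¹).toEquiv fun _ => Iff.rfl)

attribute [irreducible] cn

theorem mem_norm {g : X} {C : Subgroup X} : g ∈ Subgroup.normalizer (C : Set X) ↔ cn g C = C := by
  rw [Subgroup.mem_normalizer_iff'', Subgroup.ext_iff]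
  simp only [mem_cn]
  exact forall_congr' fun _ => Iff.comm

theorem cn_self {g : X} {C : Subgroup X} (h : g ∈ C) : cn g C = C := mem_norm.1 (C.le_normalizer h)

theorem exists_act.{u} {X : Type u} [Group X] [Finite X] {O : Subgroup X → Prop}
    (cl : ∀ C D, O C → O D → ∀ c ∈ C, O (cn c D)) :
    ∃ (G : Subgroup X) (Q : Type u) (_ : Group Q) (_ : Finite Q) (_ : MulAction Q {C // O C})
      (π : G →* Q), (∀ C, O C → C ≤ G) ∧ Function.Surjective π ∧
      (∀ (g : G) (C : {C // O C}), (π g • C).1 = cn (g : X) C.1) ∧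
      ∀ g : G, π g = 1 ↔ ∀ E, O E → cn (g : X) E = E := by
  let G : Subgroup X :=
    { carrier := {g | (∀ C, O C → O (cn g C)) ∧ ∀ C, O C → O (cn g⁻¹ C)}
      one_mem' := ⟨fun C h => by rwa [cn_one], fun C h => by rwa [inv_one, cn_one]⟩
      mul_mem' := fun x y => ⟨fun C h => by rw [cn_mul]; exact x.1 _ (y.1 _ h),
        fun C h => by rw [mul_inv_rev, cn_mul]; exact y.2 _ (x.2 _ h)⟩
      inv_mem' := fun x => ⟨x.2, by rw [inv_inv]; exact x.1⟩ }
  have le : ∀ C, O C → C ≤ G := fun C h c hc =>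
    ⟨fun D hD => cl C D h hD c hc, fun D hD => cl C D h hD _ (inv_mem hc)⟩
  let _ : MulAction G {C // O C} :=
    { smul := fun g C => ⟨cn g C, g.2.1 _ C.2⟩
      one_smul := fun C => Subtype.ext (cn_one _)
      mul_smul := fun g k C => Subtype.ext (cn_mul _ _ _) }
  let π := (MulAction.toPermHom G {C // O C}).rangeRestrict
  have πs : ∀ (g : G) (C : {C // O C}), (π g • C).1 = cn (g : X) C.1 := fun _ _ => rfl
  have π1 : ∀ g : G, π g = 1 ↔ ∀ E, O E → cn (g : X) E = E := fun g =>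
    ⟨fun e E hE => by rw [← πs g ⟨E, hE⟩, e, one_smul],
      fun e => Subtype.ext (Equiv.ext fun E => Subtype.ext (e E E.2))⟩
  exact ⟨G, _, _, inferInstance, _, π, le, MonoidHom.rangeRestrict_surjective _, πs, π1⟩

theorem exists_swaps [Finite X] {O : Subgroup X → Prop} (sq : ∀ C, O C → ∀ c ∈ C, c * c = 1)
    (cl : ∀ C D, O C → O D → ∀ c ∈ C, O (cn c D))
    (ker : ∀ C D, O C → O D → C ≠ D → ∀ c ∈ C, cn c D = D → ∀ E, O E → cn c E = E)
    {A B : Subgroup X} (hA : O A) (hB : O B) (hAB : A ≠ B) {a a' b : X} (ha : a ∈ A) (ha' : a' ∈ A)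
    (hb : b ∈ B) (a1 : cn a B ≠ B) (a1' : cn a' B ≠ B) (aa : cn (a * a') B ≠ B) (b1 : cn b A ≠ A) :
    ∃ C C', O C ∧ O C' ∧ C ≠ C' ∧ ∃ w ∈ C, ∃ w' ∈ C', cn w A = B ∧ cn w' A = B ∧
      cn (w' * w * a * (w' * w)⁻¹ * a') B = B ∧
      ∀ x ∈ A, cn (w' * w * x * (w' * w)⁻¹ * x) B = B → cn x B = B := by
  obtain ⟨G, Q, _, _, _, π, le, πo, πs, π1⟩ := exists_act cl
  obtain ⟨S, hS⟩ : ∃ S : {C // O C} → Subgroup Q, ∀ C s, s ∈ S C ↔ ∃ c : G, c.1 ∈ C.1 ∧ π c = s :=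
    ⟨fun C => (C.1.subgroupOf G).map π, fun _ _ => Iff.rfl⟩
  have T : TIs S :=
    { sq := fun C s hs => by
        obtain ⟨c, hc, rfl⟩ := (hS _ _).1 hs
        rw [← map_mul, show c * c = 1 from Subtype.ext (sq C C.2 c hc), map_one]
      fix := fun C s hs => by
        obtain ⟨c, hc, rfl⟩ := (hS _ _).1 hs
        exact Subtype.ext ((πs c C).trans (cn_self hc))
      eqv := fun g C s hs => by
        obtain ⟨c, hc, rfl⟩ := (hS _ _).1 hs
        obtain ⟨g, rfl⟩ := πo g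
        rw [hS, πs]
        exact ⟨g * c * g⁻¹, conj_mem_cn (g : X) hc, by rw [map_mul, map_mul, map_inv]⟩
      free := fun C D e s hs f => by
        obtain ⟨c, hc, rfl⟩ := (hS _ _).1 hs
        exact (π1 c).2 (ker C D C.2 D.2 (fun g => e (Subtype.ext g)) c hc
          ((πs c D).symm.trans (congrArg Subtype.val f))) }
  have mA : ∀ x (hx : x ∈ A), π ⟨x, le A hA hx⟩ ∈ S ⟨A, hA⟩ := fun x hx => (hS _ _).2 ⟨_, hx, rfl⟩
  have n1 : π ⟨a, le A hA ha⟩ ≠ 1 := fun e => a1 ((π1 _).1 e B hB)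
  have n2 : π ⟨a', le A hA ha'⟩ ≠ 1 := fun e => a1' ((π1 _).1 e B hB)
  have n3 : π ⟨a, le A hA ha⟩ ≠ π ⟨a', le A hA ha'⟩ := fun e =>
    aa ((π1 (⟨a, le A hA ha⟩ * ⟨a', le A hA ha'⟩)).1
      (by rw [map_mul, e]; exact T.sq _ _ (mA a' ha')) B hB)
  have n4 : π ⟨b, le B hB hb⟩ ≠ 1 := fun e => b1 ((π1 _).1 e A hA)
  have n5 : (⟨A, hA⟩ : {C // O C}) ≠ ⟨B, hB⟩ := fun e => hAB (congrArg Subtype.val e)
  have n6 : π ⟨b, le B hB hb⟩ ∈ S ⟨B, hB⟩ := (hS _ _).2 ⟨_, hb, rfl⟩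
  have mn := T.main n5 (mA a ha) (mA a' ha') n6 n1 n2 n3 n4
  obtain ⟨C, C', CC, u, hu, u', hu', f, f', t, fp⟩ := mn
  obtain ⟨w, hw, rfl⟩ := (hS _ _).1 hu
  obtain ⟨w', hw', rfl⟩ := (hS _ _).1 hu'
  have g : cn (w : X) A = B := (πs w ⟨A, hA⟩).symm.trans (congrArg Subtype.val f)
  have g' : cn (w' : X) A = B := (πs w' ⟨A, hA⟩).symm.trans (congrArg Subtype.val f')
  have CC' : C.1 ≠ C'.1 := fun e => CC (Subtype.ext e)
  refine ⟨C.1, C'.1, C.2, C'.2, CC', w.1, hw, w'.1, hw', g, g', ?_, ?_⟩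
  · have := (π1 (w' * w * ⟨a, le A hA ha⟩ * (w' * w)⁻¹ * ⟨a', le A hA ha'⟩)).1 (by
      rw [map_mul, map_mul, map_mul, map_inv, map_mul, t]
      exact T.sq _ _ (mA a' ha')) B hB
    simpa only [Subgroup.coe_mul, Subgroup.coe_inv] using this
  · intro x hx e
    suffices Commute (π w' * π w) (π ⟨x, le A hA hx⟩) from
      (π1 ⟨x, le A hA hx⟩).1 (fp _ (mA x hx) this) B hB
    have n : cn ((w' : X) * w) A = A := by
      rw [cn_mul, g, ← g', ← cn_mul, sq _ C'.2 (w' : X) hw', cn_one]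
    have m := conj_mem_cn ((w' : X) * w) hx
    rw [n] at m
    have := (π1 (w' * w * ⟨x, le A hA hx⟩ * (w' * w)⁻¹ * ⟨x, le A hA hx⟩)).2
      (by simpa only [Subgroup.coe_mul, Subgroup.coe_inv] using
        ker A B hA hB hAB _ (mul_mem m hx) e)
    rw [map_mul, map_mul, map_mul, map_inv, map_mul, mul_eq_one_iff_eq_inv,
      inv_eq_of_mul_eq_one_left (T.sq _ _ (mA x hx))] at this
    exact mul_inv_eq_iff_eq_mul.1 this

theorem eqns_Dih : True := by
  have := @cn.eq_1.{0}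
  trivial

end H94.U20
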