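import Mathlib
import Cfsg.Agent.Lib.U20.Dih

/-!
# Conjugates of an elementary abelian subgroup with maximal intersection
-/

set_option autoImplicit false

namespace H94.U20
open Subgroup

variable {X : Type*} [Group X]

theorem card_rel {U A : Subgroup X} (h : U ≤ A) : Nat.card U * U.relIndex A = Nat.card A := by
  rw [← Nat.card_congr (subgroupOfEquivOfLe h).toEquiv]
  exact (U.subgroupOf A).card_mul_index

theorem rel_le [Finite X] {G₁ K G₂ U : Subgroup X} (f : X → X) (h1 : ∀ a ∈ G₁, f a ∈ G₂)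
    (h2 : ∀ a ∈ G₁, ∀ a' ∈ G₁, (f a)⁻¹ * f a' ∈ U → a⁻¹ * a' ∈ K) :
    K.relIndex G₁ ≤ U.relIndex G₂ :=
  Nat.card_le_card_of_injective (fun q : G₁ ⧸ K.subgroupOf G₁ =>
    (QuotientGroup.mk ⟨f q.out, h1 _ q.out.2⟩ : G₂ ⧸ U.subgroupOf G₂)) fun q q' e => by
      rw [← q.out_eq', ← q'.out_eq']
      have := QuotientGroup.eq.1 e
      exact QuotientGroup.eq.2 (h2 _ q.out.2 _ q'.out.2 this)

theorem rel_le_two {U A : Subgroup X} (h : ∀ a ∈ A, ∀ a' ∈ A, a ∉ U → a' ∉ U → a * a' ∈ U) :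
    U.relIndex A ≤ 2 := by
  by_cases e : A ≤ U
  · rw [relIndex_eq_one.2 e]; norm_num
  · obtain ⟨a, ha, hn⟩ := SetLike.not_le_iff_exists.1 e
    refine (index_eq_two_iff.2 ⟨⟨a, ha⟩, fun b => ?_⟩).le
    by_cases g : b.1 ∈ U
    · exact Or.inr ⟨g, fun k => hn ((U.mul_mem_cancel_left g).1 k)⟩
    · exact Or.inl ⟨h _ b.2 _ ha g hn, g⟩

theorem cn_eq_of_invol {c : X} {I : Subgroup X} (h : c * c = 1) (H : ∀ x ∈ I, c * x * c⁻¹ ∈ I) :
    cn c I = I := by
  have i := inv_eq_of_mul_eq_one_left h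
  ext x
  rw [mem_cn]
  refine ⟨fun a => by simpa [mul_assoc] using H _ a, fun a => ?_⟩
  simpa only [i] using H _ a

theorem mem_of_cn {g x : X} {C : Subgroup X} (h : cn g C = C) (hx : x ∈ C) : g * x * g⁻¹ ∈ C :=
  h ▸ conj_mem_cn g hx

theorem cn_inv {g : X} {C : Subgroup X} (h : cn g C = C) : cn g⁻¹ C = C := by
  conv_lhs => rw [← h, cn_inv_cn]

/-- conjugates containing `U` -/
def Om (A U C : Subgroup X) : Prop := (∃ g, C = cn g A) ∧ U ≤ C

/-- conjugates containing `U` meet in `U` -/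
structure Loc (A U : Subgroup X) : Prop where
  sq : ∀ a ∈ A, a * a = 1
  ti : ∀ C D, Om A U C → Om A U D → C ≠ D → ∀ x ∈ C, x ∈ D → x ∈ U

theorem Om.card {A U C : Subgroup X} (h : Om A U C) : Nat.card C = Nat.card A := by
  obtain ⟨⟨g, rfl⟩, -⟩ := h
  exact card_cn _ _

theorem Om.conj {A U C : Subgroup X} (h : Om A U C) {g : X} (hg : ∀ u ∈ U, g * u = u * g) :
    Om A U (cn g C) := by
  obtain ⟨⟨k, rfl⟩, e⟩ := h
  refine ⟨⟨g * k, (cn_mul _ _ _).symm⟩, fun u hu => ?_⟩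
  rw [mem_cn, mul_assoc, ← hg u hu, inv_mul_cancel_left]
  exact e hu

namespace Loc
variable {A U C D : Subgroup X} (L : Loc A U)
include L

theorem sq' (h : Om A U C) {c : X} (hc : c ∈ C) : c * c = 1 := by
  obtain ⟨⟨g, rfl⟩, -⟩ := h
  have := L.sq _ (mem_cn.1 hc)
  calc c * c = g * (g⁻¹ * c * g * (g⁻¹ * c * g)) * g⁻¹ := by group
    _ = 1 := by rw [this]; group

theorem inv (h : Om A U C) {c : X} (hc : c ∈ C) : c⁻¹ = c :=
  inv_eq_of_mul_eq_one_left (L.sq' h hc)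

theorem comm (h : Om A U C) {c d : X} (hc : c ∈ C) (hd : d ∈ C) : c * d = d * c := by
  rw [← L.inv h (mul_mem hc hd), mul_inv_rev, L.inv h hc, L.inv h hd]

theorem cen (h : Om A U C) {c : X} (hc : c ∈ C) (u : X) (hu : u ∈ U) : c * u = u * c :=
  L.comm h hc (h.2 hu)

theorem norm_of (h : Om A U C) {g y : X} (hg : ∀ u ∈ U, g * u = u * g) (hy : y ∈ C) (hU : y ∉ U)
    (e : g * y * g⁻¹ ∈ C) : cn g C = C := by
  by_contra n
  have := L.ti _ _ (h.conj hg) h n _ (conj_mem_cn g hy) e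
  refine hU ?_
  rwa [show y = g * y * g⁻¹ by
    calc y = g⁻¹ * (g * y * g⁻¹ * g) := by group
      _ = _ := by rw [← hg _ this]; group]

theorem com_mem (hC : Om A U C) (hD : Om A U D) (n : C ≠ D) {c d : X} (hc : c ∈ C) (hd : d ∈ D)
    (e : cn c D = D) (f : cn d C = C) : d * c * d⁻¹ * c ∈ U := by
  refine L.ti _ _ hC hD n _ (mul_mem (mem_of_cn f hc) hc) ?_
  rw [mul_assoc, mul_assoc, ← mul_assoc c]
  nth_rewrite 2 [← L.inv hC hc]
  exact mul_mem hd (mem_of_cn e (inv_mem hd))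

theorem com_norm (hC : Om A U C) (hD : Om A U D) {c d : X} (hc : c ∈ C) (hd : d ∈ D)
    (f : cn d C = C) : cn (d * c * d⁻¹ * c) D = D := by
  have m := mem_of_cn f hc
  by_cases e : d ∈ U
  · rw [← L.cen hC hc d e, mul_inv_cancel_right, L.sq' hC hc, cn_one]
  · refine L.norm_of hD (L.cen hC (mul_mem m hc)) hd e ?_
    have : d * c * d⁻¹ * c * d = d * (d * c * d⁻¹ * c) := by
      have i := L.inv hD hd
      rw [i] at m ⊢
      calc d * c * d * c * d = c * (d * c * d) * d := by rw [L.comm hC m hc]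
        _ = c * d * c * (d * d) := by group
        _ = d * d * (c * d * c) := by rw [L.sq' hD hd, mul_one, one_mul]
        _ = d * (d * c * d * c) := by group
    rwa [this, mul_inv_cancel_right]

theorem norm_of_com (hC : Om A U C) (hD : Om A U D) {c d : X} (hc : c ∈ C) (hd : d ∈ D)
    (e : d ∉ U) (f : d * c * d⁻¹ * c ∈ U) : cn c D = D := by
  refine L.norm_of hD (L.cen hC hc) hd e ?_
  rw [← D.mul_mem_cancel_left hd, L.inv hC hc]
  rw [L.inv hD hd] at f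
  simpa only [mul_assoc] using hD.2 f

variable [Finite X]

theorem not_le (hC : Om A U C) (hD : Om A U D) (n : C ≠ D) : ∃ c ∈ C, c ∉ U := by
  by_contra! e
  exact n (eq_of_le_of_card_ge (fun c hc => hD.2 (e c hc)) (by rw [hC.card, hD.card]))

theorem rel1 (hC : Om A U C) (hD : Om A U D) :
    U.relIndex (C ⊓ normalizer (D : Set X)) ≤ U.relIndex (D ⊓ normalizer (C : Set X)) := by
  by_cases e : D ≤ normalizer (C : Set X)
  · rw [inf_eq_left.2 e]
    have a := card_rel hC.2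
    rw [hC.card, ← hD.card, ← card_rel hD.2] at a
    rw [← Nat.eq_of_mul_eq_mul_left Nat.card_pos a]
    exact relIndex_le_of_le_right inf_le_left index_ne_zero_of_finite
  · obtain ⟨d, hd, n⟩ := SetLike.not_le_iff_exists.1 e
    refine rel_le (fun c => c * d * c⁻¹ * d) (fun c hc => ⟨mul_mem (mem_of_cn (mem_norm.1 hc.2) hd) hd,
      mem_norm.2 (L.com_norm hD hC hd hc.1 (mem_norm.1 hc.2))⟩) fun c hc c' hc' f => ?_
    by_contra g
    have m := C.mul_mem (C.inv_mem hc.1) hc'.1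
    refine n (mem_norm.2 (L.norm_of_com hD hC hd m g ?_))
    have a := L.cen hC hc.1 _ f
    have b := mem_of_cn (mem_norm.1 hc'.2) hd
    have b' := mem_of_cn (mem_norm.1 hc.2) hd
    have : (c * d * c⁻¹ * d)⁻¹ * (c' * d * c'⁻¹ * d) = c' * d * c'⁻¹ * (c * d * c⁻¹) := by
      rw [L.inv hD (mul_mem b' hd), mul_assoc, L.comm hD b hd, ← mul_assoc d, L.sq' hD hd, one_mul,
        L.comm hD b b']
    rw [this] at f a
    convert f using 1
    calc c⁻¹ * c' * d * (c⁻¹ * c')⁻¹ * d = c⁻¹ * (c' * d * c'⁻¹ * (c * d * c⁻¹) * c) := by group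
      _ = _ := by rw [← a]; group

theorem rel2 (hC : Om A U C) (hD : Om A U D) {d : X} (hd : d ∈ D) (e : d ∉ U) (f : cn d C = C) :
    (C ⊓ normalizer (D : Set X)).relIndex C ≤ U.relIndex (C ⊓ normalizer (D : Set X)) := by
  refine rel_le (fun c => d * c * d⁻¹ * c) (fun c hc => ⟨mul_mem (mem_of_cn f hc) hc,
    mem_norm.2 (L.com_norm hC hD hc hd f)⟩) fun c hc c' hc' g => ?_
  have m := mul_mem (inv_mem hc) hc'
  refine ⟨m, mem_norm.2 (L.norm_of_com hC hD m hd e ?_)⟩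
  convert g using 1
  have a := L.comm hC (inv_mem hc) (mul_mem (inv_mem (mem_of_cn f hc)) (mem_of_cn f hc'))
  calc d * (c⁻¹ * c') * d⁻¹ * (c⁻¹ * c') = (d * c * d⁻¹)⁻¹ * (d * c' * d⁻¹) * c⁻¹ * c' := by group
    _ = _ := by rw [← a]; group

theorem fp {O : Subgroup X → Prop} (hO : ∀ C, O C → Om A U C)
    (cl : ∀ C D, O C → O D → ∀ c ∈ C, O (cn c D))
    (ker : ∀ C D, O C → O D → C ≠ D → ∀ c ∈ C, cn c D = D → ∀ E, O E → cn c E = E)
    {B : Subgroup X} (hA : O A) (hB : O B) (hAB : A ≠ B) {a a' b : X} (ha : a ∈ A) (ha' : a' ∈ A)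
    (hb : b ∈ B) (a1 : cn a B ≠ B) (a1' : cn a' B ≠ B) (aa : cn (a * a') B ≠ B) (b1 : cn b A ≠ A) :
    ∃ h, cn h A = A ∧ (∀ u ∈ U, h * u = u * h) ∧ cn (h * a * h⁻¹ * a') B = B ∧
      ∀ x ∈ A, h * x * h⁻¹ * x ∈ U → x ∈ U := by
  obtain ⟨C, C', hC, hC', n, w, hw, w', hw', f, f', t, k⟩ := exists_swaps
    (fun C h c hc => L.sq' (hO C h) hc) cl ker hA hB hAB ha ha' hb a1 a1' aa b1
  have c := L.cen (hO _ hC) hw
  have c' := L.cen (hO _ hC') hw'
  refine ⟨w' * w, by rw [cn_mul, f, ← f', ← cn_mul, L.sq' (hO _ hC') hw', cn_one],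
    fun u hu => by rw [mul_assoc, c u hu, ← mul_assoc, c' u hu, mul_assoc], t, fun x hx e => ?_⟩
  have g := ker A B hA hB hAB x hx (k x hx (cn_self ((hO _ hB).2 e)))
  have m := mul_mem (mem_of_cn (g C hC) hw) hw
  have m' := mul_mem (mem_of_cn (g C' hC') hw') hw'
  have xi := L.inv (hO _ hA) hx
  have wi := L.inv (hO _ hC) hw
  have wi' := L.inv (hO _ hC') hw'
  obtain ⟨u, hu⟩ : ∃ u, u = w' * w * x * (w' * w)⁻¹ * x := ⟨_, rfl⟩
  rw [← hu] at e
  have r : w * x * w⁻¹ = u * (w' * x * w'⁻¹) := by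
    calc w * x * w⁻¹ = w'⁻¹ * (u * x⁻¹) * w' := by rw [hu]; group
      _ = _ := by rw [xi, wi', ← mul_assoc, c' u e]; group
  have r' : x * w * x⁻¹ * w = u * (x * w' * x⁻¹ * w') := by
    rw [wi, wi'] at r
    calc x * w * x⁻¹ * w = x * (w * x * w) := by rw [xi]; group
      _ = _ := by rw [r, ← mul_assoc, L.cen (hO _ hA) hx u e, xi]; group
  have s : x * w * x⁻¹ * w ∈ U := L.ti _ _ (hO _ hC) (hO _ hC') n _ m
    (r' ▸ mul_mem ((hO _ hC').2 e) m')
  have s' : w * x * w⁻¹ ∈ U := L.ti _ _ (hO _ hA) (hO _ hB) hAB _ (by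
    have := (hO _ hA).2 s
    rw [xi, mul_assoc, mul_assoc, A.mul_mem_cancel_left hx, ← mul_assoc] at this
    rwa [wi])
    (f ▸ conj_mem_cn w hx)
  rwa [show x = w * x * w⁻¹ by
    calc x = w⁻¹ * (w * x * w⁻¹ * w) := by group
      _ = _ := by rw [← c _ s']; group]

end Loc

theorem eqns_Loc : True := by
  have := @Om.eq_1.{0}
  trivial

end H94.U20
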