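import Mathlib
import Cfsg.Agent.Lib.U20.Loc

/-!
# An elementary abelian subgroup whose normaliser is strongly 3-embedded is normal
-/

set_option autoImplicit false

namespace H94.U20
open Subgroup

variable {X : Type*} [Group X]

/-- the facts on the action of the normaliser -/
structure KF (A : Subgroup X) (q : X → ZMod 2) (β : X → X → ZMod 2) : Prop where
  sq : ∀ a ∈ A, a * a = 1
  k1 : ∀ g, cn g A = A → ∀ U ≤ A, Nat.card A ≤ 8 * Nat.card U → (∀ u ∈ U, g * u = u * g) → g ∈ A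
  k2 : ∀ B : Subgroup X, (∀ b ∈ B, b * b = 1 ∧ cn b A = A) → ∀ A₀ ≤ A,
    (∀ a ∈ A, ∀ a' ∈ A, a ∉ A₀ → a' ∉ A₀ → a * a' ∈ A₀) →
    (∀ a ∈ A₀, ∀ b ∈ B, ∀ c ∈ B, c * (b * a * b⁻¹ * a) = b * a * b⁻¹ * a * c) →
    ∀ U ≤ A, (∀ b ∈ B, ∀ u ∈ U, b * u = u * b) →
    Nat.card A * Nat.card ↥(B ⊓ A) ≤ 2 * (Nat.card U * Nat.card B) → B ≤ A
  pol : ∀ a b, β a b = q (a * b) + q a + q b
  add : ∀ a ∈ A, ∀ b ∈ A, ∀ c ∈ A, β a (b * c) = β a b + β a c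
  inv : ∀ g, cn g A = A → ∀ a ∈ A, q (g * a * g⁻¹) = q a
  nd : ∀ a ∈ A, (∀ b ∈ A, β a b = 0) → a = 1
  k4 : ∃ x y, cn x A = A ∧ cn y A = A ∧ x ^ 3 = 1 ∧ y ^ 3 = 1 ∧ x * y = y * x ∧
    ∀ a ∈ A, x * a = a * x → y * a = a * y → a = 1
  se : ∀ x, cn x A = A → x ^ 3 = 1 → x ≠ 1 → ∀ g, g * x = x * g → cn g A = A

theorem burnside_odd [Finite X] {A Y : Subgroup X} (hA : A ≤ Y) (sq : ∀ a ∈ A, a * a = 1)
    (h : ∀ g ∈ Y, cn g A = A → g ∈ A) : ∃ θ : Subgroup X,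
      (∀ y, y ∈ θ ↔ y ∈ Y ∧ Odd (orderOf y)) ∧ ∀ y ∈ Y, ∃ t ∈ θ, ∃ a ∈ A, y = t * a := by
  have : Fact (Nat.Prime 2) := ⟨Nat.prime_two⟩
  have p : IsPGroup 2 (A.subgroupOf Y) := fun g =>
    ⟨1, Subtype.ext (Subtype.ext (by simpa [pow_two] using sq _ g.2))⟩
  have n : ∀ g : Y, g ∈ normalizer (A.subgroupOf Y : Set Y) → g ∈ A.subgroupOf Y := fun g hg =>
    h g g.2 (eq_of_le_of_card_ge (fun x hx => by
      have k : (g : X)⁻¹ * x * g ∈ A := mem_cn.1 hx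
      have l := hA k
      rw [Y.mul_mem_cancel_right g.2, Y.mul_mem_cancel_left (inv_mem g.2)] at l
      exact (mem_normalizer_iff''.1 hg ⟨x, l⟩).2 k)
      (card_cn _ _).ge)
  obtain ⟨P, hP⟩ := p.exists_le_sylow
  have e : (P : Subgroup Y) = A.subgroupOf Y := by
    by_contra e
    have := P.2.isNilpotent
    have := normalizerCondition_of_isNilpotent (G := (P : Subgroup Y))
      ((A.subgroupOf Y).subgroupOf P) (lt_top_iff_ne_top.2 fun t =>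
        e (le_antisymm (subgroupOf_eq_top.1 t) hP))
    obtain ⟨g, g1, g2⟩ := SetLike.exists_of_lt this
    rw [← subgroupOf_normalizer_eq hP] at g1
    exact g2 (n _ g1)
  have c : normalizer (P : Set Y) ≤ centralizer (P : Set Y) := fun g hg x hx => by
    have a : g.1 ∈ A := n g (e ▸ hg)
    have b : x.1 ∈ A := (e ▸ hx : x ∈ A.subgroupOf Y)
    refine Subtype.ext ?_
    rw [coe_mul, coe_mul, ← inv_eq_of_mul_eq_one_left (sq _ (mul_mem b a)), mul_inv_rev,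
      inv_eq_of_mul_eq_one_left (sq _ a), inv_eq_of_mul_eq_one_left (sq _ b)]
  have k := MonoidHom.ker_transferSylow_isComplement' P c
  refine ⟨(MonoidHom.transferSylow P c).ker.map Y.subtype, fun y => ⟨?_, fun ⟨a, b⟩ => ?_⟩,
    fun y hy => ?_⟩
  · rintro ⟨y, hy, rfl⟩
    refine ⟨y.2, ?_⟩
    have := MonoidHom.not_dvd_card_ker_transferSylow P c
    rw [← Nat.not_even_iff_odd, even_iff_two_dvd]
    exact fun d => this (d.trans (by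
      rw [coe_subtype, orderOf_coe]; exact orderOf_dvd_natCard _ hy))
  · refine ⟨⟨y, a⟩, ?_, rfl⟩
    obtain ⟨k, hk⟩ := P.2 (MonoidHom.transferSylow P c ⟨y, a⟩)
    have d := orderOf_map_dvd (MonoidHom.transferSylow P c) ⟨y, a⟩
    rw [← orderOf_coe (⟨y, a⟩ : Y)] at d
    exact orderOf_eq_one_iff.1 (Nat.eq_one_of_dvd_coprimes
      ((Nat.coprime_two_left.2 b).pow_left k) (orderOf_dvd_of_pow_eq_one hk) d)
  · obtain ⟨⟨t, a⟩, e'⟩ := k.2 ⟨y, hy⟩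
    exact ⟨t.1, ⟨_, t.2, rfl⟩, a.1, (e ▸ a.2 : a.1 ∈ A.subgroupOf Y),
      (congrArg Subtype.val e').symm⟩

theorem eq_one_of_odd {y : X} (h : Odd (orderOf y)) (e : y * y = 1) : y = 1 :=
  orderOf_eq_one_iff.1 (Nat.eq_one_of_dvd_coprimes (Nat.coprime_two_left.2 h)
    (orderOf_dvd_of_pow_eq_one (by rwa [pow_two])) dvd_rfl)

namespace KF
variable {A : Subgroup X} {q : X → ZMod 2} {β : X → X → ZMod 2} (K : KF A q β)
include K

theorem inv' {a : X} (h : a ∈ A) : a⁻¹ = a := inv_eq_of_mul_eq_one_left (K.sq a h)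

theorem comm {a b : X} (ha : a ∈ A) (hb : b ∈ A) : a * b = b * a := by
  rw [← K.inv' (mul_mem ha hb), mul_inv_rev, K.inv' ha, K.inv' hb]

theorem exists_move {U : Subgroup X} (hU : ∀ a ∈ A, ∀ a' ∈ A, a ∉ U → a' ∉ U → a * a' ∈ U)
    (le : U ≤ A) {a : X} (ha : a ∈ A) (hn : a ∉ U) : ∃ x, cn x A = A ∧ x ^ 3 = 1 ∧ cn x U ≠ U := by
  by_contra! h
  obtain ⟨x, y, x1, y1, x3, y3, c, f⟩ := K.k4
  have key : ∀ x, cn x A = A → x ^ 3 = 1 → ∀ a ∈ A, a ∉ U →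
      a * (x * a * x⁻¹) * (x⁻¹ * a * x⁻¹⁻¹) ∈ A ∧ a * (x * a * x⁻¹) * (x⁻¹ * a * x⁻¹⁻¹) ∉ U ∧
      x * (a * (x * a * x⁻¹) * (x⁻¹ * a * x⁻¹⁻¹)) * x⁻¹ =
        a * (x * a * x⁻¹) * (x⁻¹ * a * x⁻¹⁻¹) := fun x x1 x3 a ha hn => by
    have u := h x x1 x3
    have m1 := mem_of_cn x1 ha
    have m2 := mem_of_cn (cn_inv x1) ha
    have n1 : x * a * x⁻¹ ∉ U := fun e => hn (by simpa [mul_assoc] using mem_of_cn (cn_inv u) e)
    have n2 : x⁻¹ * a * x⁻¹⁻¹ ∉ U := fun e => hn (by simpa [mul_assoc] using mem_of_cn u e)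
    refine ⟨mul_mem (mul_mem ha m1) m2, fun e =>
      n2 ((U.mul_mem_cancel_left (hU _ ha _ m1 hn n1)).1 e), ?_⟩
    have xi : x⁻¹ = x * x := inv_eq_of_mul_eq_one_left (by rw [← x3, pow_succ, pow_two])
    calc _ = x * a * x⁻¹ * (x * x * a * (x * x)⁻¹) * a := by group
      _ = _ := by rw [← xi, K.comm (mul_mem m1 m2) ha, mul_assoc a]
  obtain ⟨b1, b2, b3⟩ := key x x1 x3 a ha hn
  generalize a * (x * a * x⁻¹) * (x⁻¹ * a * x⁻¹⁻¹) = b at b1 b2 b3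
  obtain ⟨c1, c2, c3⟩ := key y y1 y3 b b1 b2
  refine c2 (f _ c1 (mul_inv_eq_iff_eq_mul.1 ?_) (mul_inv_eq_iff_eq_mul.1 c3) ▸ one_mem _)
  have c' : Commute x y := c
  calc _ = x * b * x⁻¹ * (x * y * b * (x * y)⁻¹) * (x * y⁻¹ * b * (x * y⁻¹)⁻¹) := by group
    _ = x * b * x⁻¹ * (y * (x * b * x⁻¹) * y⁻¹) * (y⁻¹ * (x * b * x⁻¹) * y⁻¹⁻¹) := by
      rw [c'.eq, c'.inv_right.eq]; group
    _ = _ := by rw [b3]

variable [Finite X]

theorem hyper {U : Subgroup X} (hU : ∀ a ∈ A, ∀ a' ∈ A, a ∉ U → a' ∉ U → a * a' ∈ U) (le : U ≤ A)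
    {a₀ : X} (ha : a₀ ∈ A) (hn : a₀ ∉ U) {b : X} (b2 : b * b = 1) (hb : ∀ u ∈ U, b * u = u * b) :
    b ∈ A := by
  obtain ⟨x, x1, x3, xU⟩ := K.exists_move hU le ha hn
  have xx : x⁻¹ = x * x := inv_eq_of_mul_eq_one_left (by rw [← x3, pow_succ, pow_two])
  have hy : ∀ g, cn g A = A → cn g U ≤ A ∧ (cn g U).relIndex A ≤ 2 ∧
      ∀ a ∈ A, ∀ a' ∈ A, a ∉ cn g U → a' ∉ cn g U → a * a' ∈ cn g U := fun g e => by
    have : ∀ a ∈ A, ∀ a' ∈ A, a ∉ cn g U → a' ∉ cn g U → a * a' ∈ cn g U := fun a ha a' ha' n n' => by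
      rw [← e, mem_cn] at ha ha'
      rw [mem_cn] at n n' ⊢
      simpa [mul_assoc] using hU _ ha _ ha' n n'
    exact ⟨fun u hu => e ▸ mem_cn.2 (le (mem_cn.1 hu)), rel_le_two this, this⟩
  let W := U ⊓ cn x U ⊓ cn x⁻¹ U
  have W1 : W ≤ A := inf_le_left.trans (inf_le_left.trans le)
  have W2 : Nat.card A ≤ 8 * Nat.card W := by
    have i1 : W.relIndex A ≤ _ := relIndex_inf_le
    have i2 : (U ⊓ cn x U).relIndex A ≤ _ := relIndex_inf_le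
    have i3 := Nat.mul_le_mul (i2.trans (Nat.mul_le_mul (rel_le_two hU) (hy x x1).2.1))
      (hy _ (cn_inv x1)).2.1
    rw [← card_rel W1, mul_comm]
    exact Nat.mul_le_mul_right _ (i1.trans i3)
  have W3 : cn x W = W := by
    rw [cn_inf, cn_inf, cn_cn_inv, ← cn_mul, ← xx, inf_comm, ← inf_assoc]
  have cW : ∀ {g}, g ∈ centralizer (W : Set X) ↔ ∀ u ∈ W, g * u = u * g :=
    ⟨fun h u hu => (h u hu).symm, fun h u hu => (h u hu).symm⟩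
  have nA : ∀ g ∈ centralizer (W : Set X), cn g A = A → g ∈ A := fun g hg e =>
    K.k1 g e W W1 W2 (cW.1 hg)
  obtain ⟨θ, t1, t2⟩ := burnside_odd (Y := centralizer (W : Set X))
    (fun a ha => cW.2 fun u hu => K.comm ha (W1 hu)) K.sq nA
  have t3 : ∀ y ∈ θ, cn y A = A → y = 1 := fun y hy e =>
    eq_one_of_odd ((t1 y).1 hy).2 (K.sq _ (nA y ((t1 y).1 hy).1 e))
  have t4 : ∀ y ∈ θ, x * y * x⁻¹ ∈ θ := fun y hy => (t1 _).2 ⟨cW.2 fun u hu => by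
    have := cW.1 ((t1 y).1 hy).1 _ (mem_of_cn (cn_inv W3) hu)
    calc _ = x * (y * (x⁻¹ * u * x⁻¹⁻¹)) * x⁻¹ := by group
      _ = _ := by rw [this]; group, by
        rw [← MulAut.conj_apply, MulEquiv.orderOf_eq]; exact ((t1 y).1 hy).2⟩
  let φ : θ →* θ := ((MulAut.conj x).toMonoidHom.comp θ.subtype).codRestrict θ fun y => t4 y y.2
  have fpf : MonoidHom.FixedPointFree φ := fun y e => Subtype.ext (t3 y y.2 (K.se x x1 x3
    (fun e => xU (by rw [e, cn_one])) y (mul_inv_eq_iff_eq_mul.1 (congrArg Subtype.val e)).symm))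
  obtain ⟨y, hy', a, ha', rfl⟩ := t2 b (cW.2 fun u hu => hb u hu.1.1)
  have r : y * (x * y * x⁻¹) * (x⁻¹ * y * x⁻¹⁻¹) = 1 := by
    have := congrArg Subtype.val (fpf.prod_pow_eq_one (n := 3) (funext fun z => Subtype.ext (by
      change x * (x * (x * z * x⁻¹) * x⁻¹) * x⁻¹ = z
      calc _ = x ^ 3 * z * (x ^ 3)⁻¹ := by rw [pow_three]; group
        _ = _ := by rw [x3]; group)) ⟨y, hy'⟩)
    change y * (x * y * x⁻¹ * (x * (x * y * x⁻¹) * x⁻¹ * 1)) = 1 at this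
    calc _ = y * (x * y * x⁻¹) * (x * x * y * (x * x)⁻¹) := by rw [← xx]
      _ = _ := by rw [← this]; group
  suffices y = 1 by rwa [this, one_mul]
  have o := ((t1 y).1 hy').2
  have yu : ∀ u ∈ U, u * y * u⁻¹ = y := fun u hu => by
    have := hb u hu
    rw [mul_assoc, K.comm ha' (le hu), ← mul_assoc, ← mul_assoc, mul_left_inj] at this
    rw [← this, mul_inv_cancel_right]
  have ya : a * y * a⁻¹ = y⁻¹ := by
    rw [K.inv' ha', eq_inv_iff_mul_eq_one, ← mul_left_inj a, one_mul]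
    calc a * y * a * y * a = a * (y * a * (y * a)) := by group
      _ = _ := by rw [b2, mul_one]
  by_cases aU : a ∈ U
  · exact eq_one_of_odd o (by nth_rewrite 1 [← yu a aU]; rw [ya, inv_mul_cancel])
  have yc : ∀ c ∈ A, c ∉ U → c * y * c⁻¹ = y⁻¹ := fun c hc n => by
    have := yu _ (hU _ ha' _ hc aU n)
    calc _ = a⁻¹ * (a * c * y * (a * c)⁻¹) * a⁻¹⁻¹ := by group
      _ = _ := by rw [this, K.inv' ha', ya]
  have g1 : ∀ g, ∀ c ∈ cn g U, c * (g * y * g⁻¹) * c⁻¹ = g * y * g⁻¹ := fun g c hc => by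
    calc _ = g * (g⁻¹ * c * g * y * (g⁻¹ * c * g)⁻¹) * g⁻¹ := by group
      _ = _ := by rw [yu _ (mem_cn.1 hc)]
  have g2 : ∀ g, cn g A = A → ∀ c ∈ A, c ∉ cn g U →
      c * (g * y * g⁻¹) * c⁻¹ = (g * y * g⁻¹)⁻¹ := fun g e c hc n => by
    calc _ = g * (g⁻¹ * c * g * y * (g⁻¹ * c * g)⁻¹) * g⁻¹ := by group
      _ = _ := by rw [yc _ (mem_cn.1 (e.symm ▸ hc)) (fun k => n (mem_cn.2 k))]; group
  have ex : ∀ g k, cn g U ≠ cn k U → ∃ c ∈ cn g U, c ∉ cn k U := fun g k n => by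
    by_contra! e
    exact n (eq_of_le_of_card_ge e (by rw [card_cn, card_cn]))
  have fin : ∀ g, g * y * g⁻¹ * (g * y * g⁻¹) = 1 → y = 1 := fun g e =>
    eq_one_of_odd o (by rwa [conj_mul, conj_eq_one_iff] at e)
  obtain ⟨c, c1, c2⟩ := ex 1 x (by rw [cn_one]; exact xU.symm)
  rw [cn_one] at c1
  have rc : c * (y * (x * y * x⁻¹) * (x⁻¹ * y * x⁻¹⁻¹)) * c⁻¹ = 1 := by rw [r]; group
  rw [← conj_mul, ← conj_mul (a := y), yu c c1, g2 x x1 c (le c1) c2] at rc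
  by_cases c3 : c ∈ cn x⁻¹ U
  · rw [g1 _ c c3, ← r, mul_left_inj, mul_right_inj] at rc
    exact fin x (by nth_rewrite 1 [← rc]; exact inv_mul_cancel _)
  rw [g2 _ (cn_inv x1) c (le c1) c3] at rc
  obtain ⟨d, d1, d2⟩ := ex x x⁻¹ fun e => xU (by
    have := congrArg (cn x⁻¹) e
    rw [cn_inv_cn, ← cn_mul, show x⁻¹ * x⁻¹ = x by rw [← mul_inv_rev, ← xx, inv_inv]] at this
    exact this.symm)
  have e1 := g1 x d d1
  have e2 := g2 _ (cn_inv x1) d ((hy x x1).1 d1) d2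
  have f := fin x⁻¹
  have o3 : Odd (orderOf (x⁻¹ * y * x⁻¹⁻¹)) := by
    rw [← MulAut.conj_apply, MulEquiv.orderOf_eq]; exact o
  generalize x * y * x⁻¹ = s, x⁻¹ * y * x⁻¹⁻¹ = t at r rc e1 e2 f o3
  have h1 : t * t = s⁻¹ * s⁻¹ := by
    calc t * t = s⁻¹ * y⁻¹ * (y * s * t) * ((y * s⁻¹ * t⁻¹)⁻¹ * (y * s⁻¹)) := by group
      _ = _ := by rw [r, rc]; group
  have h2 : t⁻¹ * t⁻¹ = t * t := by
    rw [← e2, conj_mul, h1, ← conj_mul, ← conj_inv, e1]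
  refine f (eq_one_of_odd ?_ (by nth_rewrite 1 [← h2]; group))
  rw [← pow_two]
  exact o3.of_dvd_nat (orderOf_pow_dvd 2)

end KF

end H94.U20
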