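import Mathlib
import Cfsg.Agent.Lib.U20.TI

/-!
# An elementary abelian subgroup whose normaliser is strongly 3-embedded is normal, II
-/

set_option autoImplicit false

namespace H94.U20
open Subgroup

variable {X : Type*} [Group X]

/-- the family used when a conjugate meets the normaliser outside `A` -/
structure Fam (A U I C : Subgroup X) : Prop where
  om : Om A U C
  n1 : ∀ i ∈ I, cn i C = C
  n2 : ∀ c ∈ C, cn c I = I
  ex : ∃ c ∈ C, c ∈ I ∧ c ∉ U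
  mem : ∀ i ∈ I, i ∉ C → ∀ c ∈ C, i * c * i⁻¹ * c ∈ U → c ∈ I

theorem Fam.conj {A U I C : Subgroup X} (h : Fam A U I C) {g : X} (hg : ∀ u ∈ U, g * u = u * g)
    (hI : cn g I = I) : Fam A U I (cn g C) := by
  have I1 : ∀ {i}, i ∈ I → g⁻¹ * i * g ∈ I := fun hi => mem_cn.1 (hI.symm ▸ hi)
  have U1 : ∀ {u}, u ∈ U → g⁻¹ * u * g ∈ U := fun hu => by
    rwa [mul_assoc, ← hg _ hu, inv_mul_cancel_left]
  refine ⟨h.om.conj hg, fun i hi => ?_, fun c hc => ?_, ?_, fun i hi n c hc e => ?_⟩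
  · rw [← cn_mul, show i * g = g * (g⁻¹ * i * g) by group, cn_mul, h.n1 _ (I1 hi)]
  · rw [show c = g * (g⁻¹ * c * g) * g⁻¹ by group, cn_mul, cn_mul, cn_inv hI, h.n2 _ (mem_cn.1 hc), hI]
  · obtain ⟨c, c1, c2, c3⟩ := h.ex
    exact ⟨_, conj_mem_cn g c1, mem_of_cn hI c2, fun e => c3 (by simpa [mul_assoc] using U1 e)⟩
  · have := h.mem _ (I1 hi) (fun k => n (mem_cn.2 k)) _ (mem_cn.1 hc) (by
      simpa [mul_assoc] using U1 e)
    simpa [mul_assoc] using mem_of_cn hI this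

namespace Loc
variable {A U C D : Subgroup X} (L : Loc A U)
include L

theorem fam_ker {I : Subgroup X} (hC : Fam A U I C) (hD : Fam A U I D) (n : C ≠ D) {c : X}
    (hc : c ∈ C) (e : cn c D = D) : c ∈ I := by
  obtain ⟨d, d1, d2, d3⟩ := hD.ex
  exact hC.mem d d2 (fun k => d3 (L.ti _ _ hC.om hD.om n d k d1)) c hc
    (L.com_mem hC.om hD.om n hc d1 e (hC.n1 d d2))

theorem fam (hC : Om A U C) (hD : Om A U D) (ex : ∃ c ∈ C, cn c D = D ∧ c ∉ U) :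
    Fam A U (C ⊓ normalizer (D : Set X) ⊔ D ⊓ normalizer (C : Set X)) C := by
  have k : ∀ c ∈ C, ∀ d ∈ D ⊓ normalizer (C : Set X),
      d * c * d⁻¹ * c ∈ C ⊓ normalizer (D : Set X) := fun c hc d hd =>
    ⟨mul_mem (mem_of_cn (mem_norm.1 hd.2) hc) hc,
      mem_norm.2 (L.com_norm hC hD hc hd.1 (mem_norm.1 hd.2))⟩
  have s : ∀ i ∈ C ⊓ normalizer (D : Set X) ⊔ D ⊓ normalizer (C : Set X),
      ∃ c ∈ C ⊓ normalizer (D : Set X), ∃ d ∈ D ⊓ normalizer (C : Set X), c * d = i := fun i hi => by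
    have := coe_mul_of_right_le_normalizer_left (N := C ⊓ normalizer (D : Set X))
      (H := D ⊓ normalizer (C : Set X)) fun d hd => mem_norm.2 (cn_eq_of_invol (L.sq' hD hd.1)
        fun c hc => by simpa [mul_assoc] using mul_mem (k c hc.1 d hd) (inv_mem hc))
    rw [← SetLike.mem_coe, this] at hi
    exact hi
  refine ⟨hC, fun i hi => mem_norm.1 (sup_le (inf_le_left.trans le_normalizer) inf_le_right hi),
    fun c hc => cn_eq_of_invol (L.sq' hC hc) fun i hi => ?_, ?_, fun i hi n c hc e => ?_⟩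
  · obtain ⟨a, ha, d, hd, rfl⟩ := s i hi
    rw [← conj_mul, L.comm hC hc ha.1, mul_inv_cancel_right,
      show c * d * c⁻¹ = (d * c * d⁻¹ * c)⁻¹ * d by
        rw [mul_inv_rev, L.inv hC hc, L.inv hC (mem_of_cn (mem_norm.1 hd.2) hc)]; group]
    exact mul_mem (mem_sup_left ha) (mul_mem (mem_sup_left (inv_mem (k c hc d hd))) (mem_sup_right hd))
  · obtain ⟨c, c1, c2, c3⟩ := ex
    exact ⟨c, c1, mem_sup_left ⟨c1, mem_norm.2 c2⟩, c3⟩
  · obtain ⟨a, ha, d, hd, rfl⟩ := s i hi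
    refine mem_sup_left ⟨hc, mem_norm.2 (L.norm_of_com hC hD hc hd.1
      (fun k => n (mul_mem ha.1 (hC.2 k))) ?_)⟩
    rwa [show a * d * c * (a * d)⁻¹ = a * (d * c * d⁻¹) * a⁻¹ by group,
      L.comm hC ha.1 (mem_of_cn (mem_norm.1 hd.2) hc), mul_inv_cancel_right] at e

end Loc

namespace KF
variable {A : Subgroup X} {q : X → ZMod 2} {β : X → X → ZMod 2} (K : KF A q β)
include K

theorem symm {a b : X} (ha : a ∈ A) (hb : b ∈ A) : β a b = β b a := by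
  rw [K.pol, K.pol, K.comm ha hb, add_right_comm]

theorem perp {g u x : X} (hg : cn g A = A) (hu : u ∈ A) (e : g * u = u * g) (hx : x ∈ A) :
    β u (g * x * g⁻¹ * x) = 0 := by
  rw [K.add u hu _ (mem_of_cn hg hx) x hx, K.pol, K.pol, K.inv g hg x hx,
    show u * (g * x * g⁻¹) = g * (u * x) * g⁻¹ by rw [← mul_assoc g, e]; group,
    K.inv g hg _ (mul_mem hu hx), CharTwo.add_self_eq_zero]

theorem zero {u : X} (hu : u ∈ A) : β u 1 = 0 := by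
  have := K.add u hu 1 (one_mem _) 1 (one_mem _)
  rwa [mul_one, CharTwo.add_self_eq_zero] at this

variable [Finite X]

theorem decomp {U : Subgroup X} {h : X} (h1 : cn h A = A)
    (h3 : ∀ x ∈ A, h * x * h⁻¹ * x ∈ U → x ∈ U) {a : X} (ha : a ∈ A) :
    ∃ x ∈ A, ∃ u ∈ U, a = h * x * h⁻¹ * x * u := by
  have m : ∀ x : A, h * x * h⁻¹ * x ∈ A := fun x => mul_mem (mem_of_cn h1 x.2) x.2
  obtain ⟨r, e⟩ := Finite.surjective_of_injective (f := fun r : A ⧸ U.subgroupOf A =>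
    (QuotientGroup.mk ⟨_, m r.out⟩ : A ⧸ U.subgroupOf A)) (fun r r' e => by
      rw [← r.out_eq', ← r'.out_eq']
      have k := QuotientGroup.eq.1 e
      replace k : (h * r.out * h⁻¹ * r.out)⁻¹ * (h * r'.out * h⁻¹ * r'.out) ∈ U := k
      refine QuotientGroup.eq.2 (h3 ((r.out : X)⁻¹ * r'.out) (mul_mem (inv_mem r.out.2) r'.out.2) ?_)
      convert k using 1
      have a := K.comm (inv_mem r.out.2)
        (mul_mem (inv_mem (mem_of_cn h1 r.out.2)) (mem_of_cn h1 r'.out.2))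
      generalize (r.out : X) = c, (r'.out : X) = c' at a
      calc h * (c⁻¹ * c') * h⁻¹ * (c⁻¹ * c') = (h * c * h⁻¹)⁻¹ * (h * c' * h⁻¹) * c⁻¹ * c' := by group
        _ = _ := by rw [← a]; group) (QuotientGroup.mk ⟨a, ha⟩)
  have k := QuotientGroup.eq.1 e
  exact ⟨_, r.out.2, (h * r.out * h⁻¹ * r.out)⁻¹ * a, k, (mul_inv_cancel_left _ _).symm⟩

theorem eq_one {U : Subgroup X} (le : U ≤ A) {h : X} (h1 : cn h A = A) (h2 : ∀ u ∈ U, h * u = u * h)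
    (h3 : ∀ x ∈ A, h * x * h⁻¹ * x ∈ U → x ∈ U) {u : X} (hu : u ∈ U) (e : ∀ v ∈ U, β v u = 0) :
    u = 1 := K.nd u (le hu) fun a ha => by
  obtain ⟨x, hx, v, hv, rfl⟩ := K.decomp h1 h3 ha
  rw [K.add u (le hu) _ (mul_mem (mem_of_cn h1 hx) hx) v (le hv), K.perp h1 (le hu) (h2 u hu) hx,
    K.symm (le hu) (le hv), e v hv, add_zero]

theorem case1 {U B : Subgroup X} (L : Loc A U) (le : U ≤ A) (hB : Om A U B) (n : A ≠ B) {b₀ : X}
    (hb : b₀ ∈ B) (e : cn b₀ A = A) : b₀ ∈ A := by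
  by_contra b1
  have hA : Om A U A := ⟨⟨1, (cn_one A).symm⟩, le⟩
  have r1 := L.rel1 hA hB
  have r2 := L.rel1 hB hA
  have r3 := L.rel2 hA hB hb (fun k => b1 (le k)) e
  have f1 := L.fam hA hB
  have f2 := L.fam hB hA ⟨b₀, hb, e, fun k => b1 (le k)⟩
  have cm : ∀ a ∈ A, ∀ b ∈ B ⊓ normalizer (A : Set X), b * a * b⁻¹ * a ∈ A ⊓ normalizer (B : Set X) :=
    fun c hc d hd => ⟨mul_mem (mem_of_cn (mem_norm.1 hd.2) hc) hc,
      mem_norm.2 (L.com_norm hA hB hc hd.1 (mem_norm.1 hd.2))⟩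
  have mA : ∀ {a}, a ∈ A ⊓ normalizer (B : Set X) ↔ a ∈ A ∧ cn a B = B := and_congr_right' mem_norm
  have mB : ∀ {a}, a ∈ B ⊓ normalizer (A : Set X) ↔ a ∈ B ∧ cn a A = A := and_congr_right' mem_norm
  generalize A ⊓ normalizer (B : Set X) = A₀, B ⊓ normalizer (A : Set X) = B₀ at *
  have u1 : U ≤ A₀ := fun u hu => mA.2 ⟨le hu, cn_self (hB.2 hu)⟩
  have u2 : U ≤ B₀ := fun u hu => mB.2 ⟨hB.2 hu, cn_self (le hu)⟩
  have a1 : A₀ ≤ A := fun a ha => (mA.1 ha).1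
  have a2 : B₀ ≤ B := fun a ha => (mB.1 ha).1
  have i : B₀ ⊓ A = U := le_antisymm (fun x hx => L.ti _ _ hA hB n x hx.2 (a2 hx.1)) (le_inf u2 le)
  have c1 := card_rel u1
  have c2 := card_rel u2
  have c3 := card_rel a1
  have c4 : Nat.card A₀ = Nat.card B₀ := by rw [← c1, ← c2, le_antisymm r1 r2]
  have s : ∀ b ∈ B₀, b * b = 1 ∧ cn b A = A := fun b hb => ⟨L.sq' hB (a2 hb), (mB.1 hb).2⟩
  have cu : ∀ a ∈ A₀, ∀ b ∈ B₀, b * a * b⁻¹ * a ∈ U := fun a ha b hb =>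
    L.com_mem hA hB n (a1 ha) (a2 hb) (mA.1 ha).2 (mB.1 hb).2
  suffices B₀ ≤ A from b1 (this (mB.2 ⟨hb, e⟩))
  by_cases t : ∀ a ∈ A, ∀ a' ∈ A, a ∉ A₀ → a' ∉ A₀ → a * a' ∈ A₀
  · have t2 : Nat.card A ≤ 2 * Nat.card A₀ := by
      rw [← c3, mul_comm]
      exact Nat.mul_le_mul_right _ (rel_le_two t)
    refine K.k2 B₀ s A₀ a1 t (fun a ha b hb c hc => L.cen hB (a2 hc) _ (cu a ha b hb)) U le
      (fun b hb => L.cen hB (a2 hb)) ?_
    rw [i, ← c4, mul_comm (Nat.card U), ← mul_assoc]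
    exact Nat.mul_le_mul_right _ t2
  push Not at t
  obtain ⟨a, ha, a', ha', t1, t2, t3⟩ := t
  obtain ⟨b, hb', t4⟩ : ∃ b ∈ B, b ∉ B₀ := by
    by_contra! k
    refine t1 ((eq_of_le_of_card_ge a1 ?_).ge ha)
    rw [c4, le_antisymm a2 k, hB.card]
  obtain ⟨c, hc, t5⟩ : ∃ c ∈ A₀, c ∉ U := by
    by_contra! k
    refine b1 (le ((eq_of_le_of_card_ge u2 ?_).ge (mB.2 ⟨hb, e⟩)))
    rw [← c4, le_antisymm k u1]
  rw [sup_comm] at f2
  obtain ⟨h, h1, h2, -, h3⟩ := L.fp (O := Fam A U (A₀ ⊔ B₀)) (fun _ h => h.om)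
    (fun C D hC hD c hc => hD.conj (L.cen hC.om hc) (hC.n2 c hc))
    (fun C D hC hD n c hc e E hE => hE.n1 c (L.fam_ker hC hD n hc e))
    (f1 ⟨c, a1 hc, (mA.1 hc).2, t5⟩) f2 n ha ha' hb' (fun k => t1 (mA.2 ⟨ha, k⟩))
    (fun k => t2 (mA.2 ⟨ha', k⟩)) (fun k => t3 (mA.2 ⟨mul_mem ha ha', k⟩))
    (fun k => t4 (mB.2 ⟨hb', k⟩))
  have cc : ∀ b ∈ B₀, ∀ a ∈ A₀, b * a = a * b := fun b hb a ha => by
    have := K.eq_one le h1 h2 h3 (cu a ha b hb) fun v hv =>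
      K.perp (s b hb).2 (le hv) (L.cen hB (a2 hb) v hv) (a1 ha)
    rwa [mul_eq_one_iff_eq_inv, K.inv' (a1 ha), mul_inv_eq_iff_eq_mul] at this
  refine K.k2 B₀ s A le_rfl (fun _ a _ b _ _ => mul_mem a b) (fun a ha b hb c hc => cc c hc _ (cm a ha b hb)) A₀ a1 cc ?_
  rw [i, ← c3, ← c2, mul_assoc, mul_comm (Nat.card U)]
  exact (Nat.mul_le_mul_left _ (Nat.mul_le_mul_right _ (r3.trans r1))).trans (by omega)

theorem case2 {U B : Subgroup X} (L : Loc A U) (le : U ≤ A) (hB : Om A U B) (n : A ≠ B)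
    (H : ∀ C D, Om A U C → Om A U D → C ≠ D → ∀ c ∈ C, cn c D = D → c ∈ D) : False := by
  have hA : Om A U A := ⟨⟨1, (cn_one A).symm⟩, le⟩
  have H' : ∀ C D, Om A U C → Om A U D → C ≠ D → ∀ c ∈ C, cn c D = D → c ∈ U :=
    fun C D hC hD n c hc e => L.ti _ _ hC hD n c hc (H C D hC hD n c hc e)
  obtain ⟨b, hb, b1⟩ := L.not_le hB hA n.symm
  have fp : ∀ a ∈ A, ∀ a' ∈ A, a ∉ U → a' ∉ U → a * a' ∉ U → ∃ h, cn h A = A ∧
      (∀ u ∈ U, h * u = u * h) ∧ h * a * h⁻¹ * a' ∈ U ∧ ∀ x ∈ A, h * x * h⁻¹ * x ∈ U → x ∈ U :=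
    fun a ha a' ha' t1 t2 t3 => by
      obtain ⟨h, h1, h2, h3, h4⟩ := L.fp (O := Om A U) (fun _ h => h)
        (fun C D hC hD c hc => hD.conj (L.cen hC hc))
        (fun C D hC hD n c hc e E hE => cn_self (hE.2 (H' C D hC hD n c hc e)))
        hA hB n ha ha' hb (fun k => t1 (H' _ _ hA hB n _ ha k)) (fun k => t2 (H' _ _ hA hB n _ ha' k))
        (fun k => t3 (H' _ _ hA hB n _ (mul_mem ha ha') k)) (fun k => b1 (H' _ _ hB hA n.symm _ hb k))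
      exact ⟨h, h1, h2, H' _ _ hA hB n _ (mul_mem (mem_of_cn h1 ha) ha') h3, h4⟩
  by_cases t : ∀ a ∈ A, ∀ a' ∈ A, a ∉ U → a' ∉ U → a * a' ∈ U
  · obtain ⟨a, ha, a1⟩ := L.not_le hA hB n
    exact b1 (L.ti _ _ hA hB n b (K.hyper t le ha a1 (L.sq' hB hb) (L.cen hB hb)) hb)
  push Not at t
  obtain ⟨a, ha, a', ha', t1, t2, t3⟩ := t
  obtain ⟨h, h1, h2, -, h3⟩ := fp a ha a' ha' t1 t2 t3
  by_cases c : Nat.card A ≤ 8 * Nat.card U
  · have := K.k1 h h1 U le c h2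
    exact t1 (h3 a ha (by rw [K.comm this ha, mul_inv_cancel_right, K.sq a ha]; exact one_mem _))
  let P : Subgroup X :=
    { carrier := {p | p ∈ A ∧ ∀ u ∈ U, β u p = 0}
      one_mem' := ⟨one_mem _, fun u hu => K.zero (le hu)⟩
      mul_mem' := fun x y => ⟨mul_mem x.1 y.1, fun u hu => by
        rw [K.add u (le hu) _ x.1 _ y.1, x.2 u hu, y.2 u hu, add_zero]⟩
      inv_mem' := fun x => by rwa [K.inv' x.1] }
  have PU : ∀ p ∈ P, p ∈ U → p = 1 := fun p hp hu => K.eq_one le h1 h2 h3 hu hp.2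
  have d : ∀ a ∈ A, ∃ p ∈ P, ∃ u ∈ U, a = p * u := fun a ha => by
    obtain ⟨x, hx, u, hu, e⟩ := K.decomp h1 h3 ha
    exact ⟨_, ⟨mul_mem (mem_of_cn h1 hx) hx, fun v hv => K.perp h1 (le hv) (h2 v hv) hx⟩, u, hu, e⟩
  have cP : 8 < Nat.card P := by
    have := Nat.card_le_card_of_surjective (fun z : P × U => (⟨z.1 * z.2, mul_mem z.1.2.1 (le z.2.2)⟩ : A))
      fun a => by
        obtain ⟨p, hp, u, hu, e⟩ := d a a.2
        exact ⟨(⟨p, hp⟩, ⟨u, hu⟩), Subtype.ext e.symm⟩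
    rw [Nat.card_prod] at this
    exact Nat.lt_of_mul_lt_mul_right ((not_le.1 c).trans_le this)
  have qc : ∀ p ∈ P, ∀ p' ∈ P, p ≠ 1 → p' ≠ 1 → q p = q p' := fun p hp p' hp' n1 n2 => by
    by_cases e : p * p' = 1
    · rw [eq_inv_of_mul_eq_one_left e, K.inv' hp'.1]
    obtain ⟨g, g1, g2, g3, -⟩ := fp p hp.1 p' hp'.1 (fun k => n1 (PU _ hp k)) (fun k => n2 (PU _ hp' k))
      fun k => e (PU _ (mul_mem hp hp') k)
    have m : g * p * g⁻¹ ∈ P := by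
      have : g * p * g⁻¹ * p ∈ P :=
        ⟨mul_mem (mem_of_cn g1 hp.1) hp.1, fun v hv => K.perp g1 (le hv) (g2 v hv) hp.1⟩
      exact (P.mul_mem_cancel_right hp).1 this
    rw [← K.inv g g1 p hp.1, eq_inv_of_mul_eq_one_left (PU _ (mul_mem m hp') g3), K.inv' hp'.1]
  have ex : ∀ w x y z : X, ∃ p ∈ P, p ≠ w ∧ p ≠ x ∧ p ≠ y ∧ p ≠ z := fun w x y z => by
    classical
    by_contra! k
    have := Set.ncard_le_ncard (s := (P : Set X)) (t := (({w, x, y, z} : Finset X) : Set X))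
      fun p hp => by have := k p hp; simp only [Finset.coe_insert, Finset.coe_singleton,
        Set.mem_insert_iff, Set.mem_singleton_iff]; tauto
    rw [Set.ncard_coe_finset] at this
    have := this.trans Finset.card_le_four
    rw [← Nat.card_coe_set_eq] at this
    exact absurd (cP.trans_le this) (by norm_num)
  have bc : ∀ p ∈ P, ∀ p' ∈ P, p ≠ 1 → p' ≠ 1 → p ≠ p' → β p p' = q p := fun p hp p' hp' n1 n2 n3 => by
    rw [K.pol, qc _ (mul_mem hp hp') p hp (fun e => n3 (by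
      rw [eq_inv_of_mul_eq_one_left e, K.inv' hp'.1])) n1, qc p' hp' p hp n2 n1,
      CharTwo.add_self_eq_zero, zero_add]
  obtain ⟨x, hx, x1, -⟩ := ex 1 1 1 1
  obtain ⟨y, hy, y1, y2, -⟩ := ex 1 x 1 1
  obtain ⟨z, hz, z1, z2, z3, z4⟩ := ex 1 x y⁻¹ (y⁻¹ * x)
  have q0 : q x = 0 := by
    have := K.add x hx.1 y hy.1 z hz.1
    rwa [bc x hx y hy x1 y1 y2.symm, bc x hx z hz x1 z1 z2.symm, CharTwo.add_self_eq_zero,
      bc x hx _ (mul_mem hy hz) x1 (fun e => z3 (eq_inv_of_mul_eq_one_right e))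
      fun e => z4 (eq_inv_mul_of_mul_eq e.symm)] at this
  refine x1 (K.nd x hx.1 fun a ha => ?_)
  obtain ⟨p, hp, u, hu, rfl⟩ := d a ha
  rw [K.add x hx.1 p hp.1 u (le hu), K.symm hx.1 (le hu), hx.2 u hu, add_zero]
  by_cases p1 : p = 1
  · rw [p1, K.zero hx.1]
  by_cases p2 : x = p
  · have := K.zero (one_mem A)
    rw [K.pol, mul_one, CharTwo.add_self_eq_zero, zero_add] at this
    rw [← p2, K.pol, K.sq x hx.1, this, zero_add, CharTwo.add_self_eq_zero]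
  rw [bc x hx p hp x1 p1 p2, q0]

theorem normal (g : X) : cn g A = A := by
  by_contra n
  obtain ⟨⟨k, hk⟩, M⟩ := @Finite.exists_max {k : X // cn k A ≠ A} ℕ _ ⟨⟨g, n⟩⟩ _
    fun k => Nat.card ↥(A ⊓ cn k.1 A)
  have M' : ∀ r s, cn r A ≠ cn s A → Nat.card ↥(cn r A ⊓ cn s A) ≤ Nat.card ↥(A ⊓ cn k A) :=
    fun r s e => by
      rw [← card_cn r⁻¹, cn_inf, cn_inv_cn, ← cn_mul]
      exact M ⟨r⁻¹ * s, fun f => e (by
        conv_lhs => rw [← f, ← cn_mul, mul_inv_cancel_left])⟩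
  have loc : ∀ U : Subgroup X, Nat.card U = Nat.card ↥(A ⊓ cn k A) → Loc A U := fun U e =>
    ⟨K.sq, by
      rintro _ _ ⟨⟨r, rfl⟩, a⟩ ⟨⟨s, rfl⟩, b⟩ n x h h'
      exact (eq_of_le_of_card_ge (le_inf a b) (e ▸ M' r s n)).ge ⟨h, h'⟩⟩
  refine K.case2 (loc _ rfl) inf_le_left ⟨⟨k, rfl⟩, inf_le_right⟩ (Ne.symm hk) ?_
  rintro _ _ ⟨⟨r, rfl⟩, a⟩ ⟨⟨s, rfl⟩, b⟩ n c hc e
  refine mem_cn.2 (K.case1 (loc (cn s⁻¹ (A ⊓ cn k A)) (card_cn _ _)) (B := cn s⁻¹ (cn r A))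
    (fun u hu => ?_) ⟨⟨_, (cn_mul _ _ _).symm⟩, fun u hu => mem_cn.2 (a (mem_cn.1 hu))⟩
    (fun f => n (by conv_rhs => rw [f, cn_cn_inv])) (by simpa using conj_mem_cn s⁻¹ hc) ?_)
  · simpa [mul_assoc] using mem_cn.1 (b (mem_cn.1 hu))
  · rw [cn_mul, cn_mul, e, cn_inv_cn]

end KF

end H94.U20
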