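import Mathlib
import Cfsg.Agent.Lib.U20.Id
import Cfsg.Agent.Lib.U20.TI2

/-!
# Irreducible modules of order `2^20` for `U6(2)` and `U6(2).2`
-/

set_option autoImplicit false

namespace H94.U20
open Subgroup
open H96.BMod (Quad)

theorem mod_facts {K M : Type*} [Group K] [Finite K] [AddCommGroup M] [Module (ZMod 2) M]
    [DistribMulAction K M] (hc : Nat.card M = 2 ^ 20)
    (irr : ∀ U : AddSubgroup M, (∀ (k : K), ∀ u ∈ U, k • u ∈ U) → U = ⊥ ∨ U = ⊤) (ι : P →* K)
    (i1 : Function.Injective ι) (i2 : ∀ σ p, ∃ p', σ * ι p * σ⁻¹ = ι p')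
    (i3 : ∀ σ τ, σ ∉ ι.range → τ ∉ ι.range → σ * τ ∈ ι.range)
    (i4 : ∀ σ, (∀ p, σ * ι p = ι p * σ) → σ = 1) :
    (∀ (σ : K) (U : AddSubgroup M), 2 ^ 17 ≤ Nat.card U → (∀ u ∈ U, σ • u = u) → σ = 1) ∧
    (∀ R : Subgroup K, (∀ r ∈ R, r * r = 1) → ∀ W : AddSubgroup M,
      (∀ a a', a ∉ W → a' ∉ W → a + a' ∈ W) →
      (∀ a ∈ W, ∀ r ∈ R, ∀ s ∈ R, s • (r • a + a) = r • a + a) → ∀ U : AddSubgroup M,
      (∀ r ∈ R, ∀ u ∈ U, r • u = u) → 2 ^ 19 ≤ Nat.card U * Nat.card R → R = ⊥) ∧
    (∃ q : M → ZMod 2, (∀ a b c, q (a + (b + c)) + q a + q (b + c) =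
      q (a + b) + q a + q b + (q (a + c) + q a + q c)) ∧ (∀ (g : K) v, q (g • v) = q v) ∧
      ∀ a, (∀ b, q (a + b) + q a + q b = 0) → a = 0) ∧
    ∃ x y : K, x ^ 3 = 1 ∧ y ^ 3 = 1 ∧ x * y = y * x ∧ ∀ v : M, x • v = v → y • v = v → v = 0 := by
  have : Finite M := Nat.finite_of_card_ne_zero (by rw [hc]; norm_num)
  have c2 : ∀ a : M, a + a = 0 := fun a => by
    rw [← two_smul (ZMod 2), show (2 : ZMod 2) = 0 from rfl, zero_smul]
  have c3 : ∀ {a b : M}, a + b = 0 ↔ a = b := fun {a b} => by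
    rw [add_eq_zero_iff_eq_neg, neg_eq_of_add_eq_zero_left (c2 b)]
  let _ : DistribMulAction P M := DistribMulAction.compHom M ι
  obtain ⟨⟨T, hT⟩, ⟨q, q1, q2, ⟨v₀, q3⟩, q4⟩, x, y, x3, y3, c, f⟩ := ident hc (by
    by_contra! h
    replace h : ∀ σ ∈ ι.range, ∀ v : M, σ • v = v := by
      rintro _ ⟨p, rfl⟩
      exact h p
    have h' : ∀ (σ : K) (v : M), σ • v = v := fun σ v => by
      rcases irr (FixedPoints.addSubgroup K M) (fun k u hu => by rwa [hu k]) with e | e
      · by_cases s : σ ∈ ι.range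
        · exact h σ s v
        refine c3.1 (AddSubgroup.mem_bot.1 (e ▸ fun τ => ?_))
        by_cases t : τ ∈ ι.range
        · exact h τ t _
        rw [smul_add, smul_smul, h _ (i3 τ σ t s), add_comm, add_left_inj,
          ← h _ (i3 τ σ⁻¹ t (by rwa [inv_mem_iff])) (σ • v), mul_smul, inv_smul_smul]
      · exact (e ▸ AddSubgroup.mem_top v : v ∈ FixedPoints.addSubgroup K M) σ
    have : Nontrivial M := Finite.one_lt_card_iff_nontrivial.1 (by rw [hc]; norm_num)
    obtain ⟨m, hm⟩ := exists_ne (0 : M)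
    rcases irr (AddSubgroup.zmultiples m) (fun k u hu => by rwa [h']) with e | e
    · exact hm (AddSubgroup.zmultiples_eq_bot.1 e)
    · have := Nat.card_zmultiples m
      rw [e, AddSubgroup.card_top, hc] at this
      exact absurd (this ▸ addOrderOf_dvd_of_nsmul_eq_zero ((two_nsmul m).trans (c2 m))) (by norm_num))
  have m1 : ∀ (σ : K) (U : AddSubgroup M), 2 ^ 17 ≤ Nat.card U → (∀ u ∈ U, σ • u = u) → σ = 1 :=
    fun σ U hU h => i4 σ (commute_of_fix i1 hT (i2 σ) hU h)
  have qi : ∀ (g : K) v, q (g • v) = q v := fun g => q4 (fun v => q (g • v))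
    (fun a b c => by simp only [smul_add]; exact q1 _ _ _) (fun p v => by
      obtain ⟨p', e⟩ := i2 g p
      change q (g • ι p • v) = _
      rw [smul_smul, mul_inv_eq_iff_eq_mul.1 e, mul_smul]
      exact q2 p' _) ⟨g⁻¹ • v₀, by rwa [smul_inv_smul]⟩
  have qa : ∀ a b c, q (a + (b + c)) + q a + q (b + c) =
      q (a + b) + q a + q b + (q (a + c) + q a + q c) := fun a b c => by
    have := q1 a b c
    rw [add_comm c a, add_assoc a] at this
    revert this
    generalize q (a + (b + c)) = s1, q a = s2, q b = s3, q c = s4, q (a + b) = s5, q (b + c) = s6,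
      q (a + c) = s7
    revert s1 s2 s3 s4 s5 s6 s7
    decide
  refine ⟨m1, fun R h2 W hW hD U hU hR => ?_, ⟨q, qa, qi, fun a ha => ?_⟩, ι x, ι y,
    by rw [← map_pow, x3, map_one], by rw [← map_pow, y3, map_one],
    by rw [← map_mul, c, map_mul], f⟩
  · have k : 2 ^ 18 ≤ Nat.card U * Nat.card (R.comap ι) := by
      have a := card_rel (U := ι.range ⊓ R) inf_le_right
      rw [inf_relIndex_right, ← map_comap_eq, card_map_of_injective i1] at a
      have b := rel_le_two (U := ι.range) (A := R) fun a _ b _ => i3 a b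
      have := Nat.mul_le_mul_left (Nat.card U) (a.ge.trans (Nat.mul_le_mul_left _ b))
      rw [← mul_assoc] at this
      omega
    have e := eq_bot_of_quad hT (R.comap ι) (fun r hr => i1 (by rw [map_mul, h2 _ hr, map_one]))
      (fun r hr s hs => ?_) (fun r hr => hU _ hr) k
    · rw [e, card_bot, mul_one] at k
      exact eq_bot_iff.2 fun r hr => m1 r U (le_trans (by norm_num) k) (hU r hr)
    have z : ∀ a ∈ W, ι r • ι s • a + ι r • a + ι s • a + a = 0 := fun a ha => by
      rw [add_assoc, ← smul_add, hD a ha _ hs _ hr, c2]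
    by_cases w : ∃ w, w ∉ W
    · obtain ⟨w, hw⟩ := w
      refine ⟨ι r • ι s • w + ι r • w + ι s • w + w, fun a => ?_⟩
      by_cases ha : a ∈ W
      · exact Or.inl (z a ha)
      refine Or.inr (c3.1 ?_)
      rw [← z _ (hW a w ha hw)]
      simp only [smul_add]
      abel
    · exact ⟨0, fun a => Or.inl (z a (not_not.1 fun k => w ⟨a, k⟩))⟩
  · have q0 := q1.zero
    let Rad : AddSubgroup M :=
      { carrier := {a | ∀ b, q (b + a) + q b + q a = 0}
        zero_mem' := fun b => by rw [add_zero, q0, add_zero, CharTwo.add_self_eq_zero]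
        add_mem' := fun x y b => by rw [qa, x b, y b, add_zero]
        neg_mem' := fun x => by rwa [neg_eq_of_add_eq_zero_left (c2 _)] }
    rcases irr Rad (fun k u hu b => by
      rw [← hu (k⁻¹ • b), ← qi k (_ + u), smul_add, smul_inv_smul, qi, qi]) with e | e
    · exact AddSubgroup.mem_bot.1 (e ▸ fun b => by rw [add_comm b, add_right_comm, ha])
    have ad : ∀ a b, q (a + b) = q a + q b := fun a b => by
      have := (e ▸ AddSubgroup.mem_top b : b ∈ Rad) a
      rwa [add_assoc, CharTwo.add_eq_zero] at this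
    rcases irr (AddMonoidHom.mk' q ad).ker (fun k u hu => (qi k u).trans hu) with e' | e'
    · have := Nat.card_le_card_of_injective _ ((AddMonoidHom.ker_eq_bot_iff _).1 e')
      rw [hc, Nat.card_zmod] at this
      omega
    · exact absurd (e' ▸ AddSubgroup.mem_top v₀ : v₀ ∈ (AddMonoidHom.mk' q ad).ker) q3

theorem exists_mod.{u} {X : Type u} [Group X] {A K : Subgroup X} (sq : ∀ a ∈ A, a * a = 1)
    (n : ∀ k ∈ K, cn k A = A) : ∃ (M : Type u) (_ : AddCommGroup M) (_ : Module (ZMod 2) M)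
      (_ : DistribMulAction K M) (e : Multiplicative M →* X), Function.Injective e ∧ e.range = A ∧
      ∀ (k : K) (m : M), e (.ofAdd (k • m)) = k * e (.ofAdd m) * (k : X)⁻¹ := by
  have i : ∀ a ∈ A, a⁻¹ = a := fun a h => inv_eq_of_mul_eq_one_left (sq a h)
  let _ : CommGroup A := { (inferInstance : Group A) with
    mul_comm := fun a b => Subtype.ext (by
      rw [coe_mul, coe_mul, ← i _ (mul_mem a.2 b.2), mul_inv_rev, i _ a.2, i _ b.2]) }
  exact ⟨Additive A, inferInstance, AddCommGroup.zmodModule fun a =>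
      (two_nsmul a).trans (Subtype.ext (sq _ a.toMul.2)),
    { smul := fun k a => Additive.ofMul ⟨k * a.toMul * (k : X)⁻¹, mem_of_cn (n k k.2) a.toMul.2⟩
      one_smul := fun a => Subtype.ext (by change (1 : X) * _ * 1⁻¹ = _; group; rfl)
      mul_smul := fun k l a => Subtype.ext (by
        change (k : X) * l * _ * (k * l : X)⁻¹ = k * (l * _ * (l : X)⁻¹) * (k : X)⁻¹; group)
      smul_zero := fun k => Subtype.ext (by change (k : X) * 1 * (k : X)⁻¹ = 1; group)
      smul_add := fun k a b => Subtype.ext conj_mul.symm },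
    A.subtype, A.subtype_injective, A.range_subtype, fun _ _ => rfl⟩

end H94.U20
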