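import Mathlib
import Cfsg.Agent.Lib.U20.Mod

/-!
# The normaliser of `2^20` with complement `U6(2)` or `U6(2).2`
-/

set_option autoImplicit false

namespace H94.U20
open Subgroup

variable {X : Type*} [Group X] [Finite X]

theorem sq_of_min {A : Subgroup X} (hA : Nat.card A = 2 ^ 20)
    (hmin : ∀ B ≤ A, (∀ h, cn h A = A → ∀ b ∈ B, h * b * h⁻¹ ∈ B) → B = ⊥ ∨ B = A) :
    ∀ a ∈ A, a * a = 1 := by
  have : Fact (Nat.Prime 2) := ⟨Nat.prime_two⟩
  have p : IsPGroup 2 A := .of_card hA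
  have : Nontrivial A := Finite.one_lt_card_iff_nontrivial.1 (by rw [hA]; norm_num)
  obtain ⟨n, n0, e⟩ := (p.to_subgroup (center A)).nontrivial_iff_card.1 p.center_nontrivial
  obtain ⟨z, hz⟩ := exists_prime_orderOf_dvd_card' (G := center A) 2 (e ▸ dvd_pow_self 2 n0.ne')
  let Z : Subgroup X :=
    { carrier := {z | z ∈ A ∧ z * z = 1 ∧ ∀ a ∈ A, z * a = a * z}
      one_mem' := ⟨one_mem _, one_mul _, by simp⟩
      mul_mem' := fun {x y} a b => ⟨mul_mem a.1 b.1, by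
        rw [mul_assoc, ← mul_assoc y, b.2.2 x a.1, mul_assoc, b.2.1, mul_one, a.2.1],
        fun c hc => by rw [mul_assoc, b.2.2 c hc, ← mul_assoc, a.2.2 c hc, mul_assoc]⟩
      inv_mem' := fun a => by rwa [inv_eq_of_mul_eq_one_left a.2.1] }
  rcases hmin Z (fun _ h => h.1) (fun h e b hb => ⟨mem_of_cn e hb.1,
    by rw [conj_mul, hb.2.1, mul_one, mul_inv_cancel], fun a ha => by
      calc _ = h * (b * (h⁻¹ * a * h⁻¹⁻¹)) * h⁻¹ := by group
        _ = _ := by rw [hb.2.2 _ (mem_of_cn (cn_inv e) ha)]; group⟩) with f | f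
  · have : z.1.1 ∈ Z := ⟨z.1.2, by
      have := pow_orderOf_eq_one z
      rw [hz, pow_two] at this
      exact congrArg (fun x => x.1.1) this,
      fun a ha => congrArg Subtype.val (mem_center_iff.1 z.2 ⟨a, ha⟩).symm⟩
    rw [f, mem_bot] at this
    rw [show z = 1 from Subtype.ext (Subtype.ext this), orderOf_one] at hz
    omega
  · exact fun a ha => (f.ge ha).2.1

theorem exists_KF {A K : Subgroup X} (hA : Nat.card A = 2 ^ 20) (n : ∀ k ∈ K, cn k A = A)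
    (hAK : A ⊓ K = ⊥) (dec : ∀ h, cn h A = A → ∃ a ∈ A, ∃ k ∈ K, a * k = h)
    (hmin : ∀ B ≤ A, (∀ h, cn h A = A → ∀ b ∈ B, h * b * h⁻¹ ∈ B) → B = ⊥ ∨ B = A) (ι : P →* K)
    (i1 : Function.Injective ι) (i2 : ∀ σ p, ∃ p', σ * ι p * σ⁻¹ = ι p')
    (i3 : ∀ σ τ, σ ∉ ι.range → τ ∉ ι.range → σ * τ ∈ ι.range)
    (i4 : ∀ σ, (∀ p, σ * ι p = ι p * σ) → σ = 1)
    (se : ∀ x, cn x A = A → x ^ 3 = 1 → x ≠ 1 → ∀ g, g * x = x * g → cn g A = A) :
    ∃ q β, KF A q β := by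
  have sq := sq_of_min hA hmin
  have i : ∀ a ∈ A, a⁻¹ = a := fun a h => inv_eq_of_mul_eq_one_left (sq a h)
  have cm : ∀ a ∈ A, ∀ b ∈ A, a * b = b * a := fun a ha b hb => by
    rw [← i _ (mul_mem ha hb), mul_inv_rev, i _ ha, i _ hb]
  have cj : ∀ a ∈ A, ∀ k, cn k A = A → ∀ b ∈ A, a * k * b * (a * k)⁻¹ = k * b * k⁻¹ :=
    fun a ha k hk b hb => by
      rw [show a * k * b * (a * k)⁻¹ = a * (k * b * k⁻¹) * a⁻¹ by group, cm a ha _ (mem_of_cn hk hb),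
        mul_inv_cancel_right]
  obtain ⟨M, _, _, _, e, e1, e2, e3⟩ := exists_mod sq n
  have eA : ∀ m, e m ∈ A := fun m => e2 ▸ ⟨m, rfl⟩
  have Ae : ∀ a ∈ A, ∃ m : M, e (.ofAdd m) = a := fun a ha => (e2.symm ▸ ha : a ∈ e.range)
  obtain ⟨t, t1, t2⟩ : ∃ t : Subgroup X → AddSubgroup M, (∀ U m, m ∈ t U ↔ e (.ofAdd m) ∈ U) ∧
      ∀ U ≤ A, Nat.card (t U) = Nat.card U :=
    ⟨fun U => (U.comap e).toAddSubgroup', fun _ _ => Iff.rfl, fun U hU => by
      conv_rhs => rw [← map_comap_eq_self (e2.symm ▸ hU : U ≤ e.range), card_map_of_injective e1]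
      rfl⟩
  have fx : ∀ (k : K) (m : M), k • m = m ↔ k * e (.ofAdd m) = e (.ofAdd m) * k := fun k m => by
    rw [← mul_inv_eq_iff_eq_mul, ← e3, e1.eq_iff, Multiplicative.ofAdd.apply_eq_iff_eq]
  obtain ⟨m1, m2, ⟨q, q1, q2, q3⟩, x, y, x3, y3, c, f⟩ := mod_facts (M := M)
    (by rw [← hA, ← t2 A le_rfl, (AddSubgroup.eq_top_iff' _).2 fun m => (t1 A m).2 (eA _),
      AddSubgroup.card_top]) (fun U hU => by
      rcases hmin (U.toSubgroup.map e) (by rintro _ ⟨m, -, rfl⟩; exact eA m) (by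
        rintro h hh _ ⟨m, hm, rfl⟩
        obtain ⟨a, ha, k, hk, rfl⟩ := dec h hh
        exact ⟨_, hU ⟨k, hk⟩ _ hm, (e3 _ _).trans (cj a ha k (n k hk) _ (eA m)).symm⟩) with g | g
      · exact Or.inl (AddSubgroup.toSubgroup.injective ((map_eq_bot_iff_of_injective _ e1).1 g))
      · refine Or.inr ((AddSubgroup.eq_top_iff' _).2 fun m => ?_)
        obtain ⟨m', h1, h2⟩ := g.ge (eA (.ofAdd m))
        exact (e1 h2 ▸ h1 : Multiplicative.ofAdd m ∈ U.toSubgroup)) ι i1 i2 i3 i4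
  obtain ⟨Q, hQ⟩ : ∃ Q : X → ZMod 2, ∀ m, Q (e (.ofAdd m)) = q m :=
    ⟨fun x => q (Function.invFun e x).toAdd, fun m => by simp only [Function.leftInverse_invFun e1 _]; rfl⟩
  have ea : ∀ a b : M, e (.ofAdd a) * e (.ofAdd b) = e (.ofAdd (a + b)) := fun a b => (map_mul e _ _).symm
  have k1 : ∀ g, cn g A = A → ∀ U ≤ A, Nat.card A ≤ 8 * Nat.card U → (∀ u ∈ U, g * u = u * g) →
      g ∈ A := fun g hg U hU h1 h2 => by
    obtain ⟨a, ha, k, hk, rfl⟩ := dec g hg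
    have := m1 ⟨k, hk⟩ (t U) (by rw [t2 U hU]; omega) fun m hm => (fx _ _).2 (by
      rw [← mul_inv_eq_iff_eq_mul, ← cj a ha k (n k hk) _ (eA _), h2 _ ((t1 _ _).1 hm),
        mul_inv_cancel_right])
    rwa [show k = 1 from congrArg Subtype.val this, mul_one]
  refine ⟨Q, fun a b => Q (a * b) + Q a + Q b, sq, k1, fun B hB W hW w1 w2 U hU u1 u2 => ?_,
    fun _ _ => rfl, fun a ha b hb c hc => ?_, fun g hg b hb => ?_, fun a ha h => ?_,
    ⟨x, y, n _ x.2, n _ y.2, congrArg Subtype.val x3, congrArg Subtype.val y3, congrArg Subtype.val c,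
      fun a ha h1 h2 => ?_⟩, se⟩
  · have d : ∀ r ∈ A ⊔ B, ∃ a ∈ A, ∃ b ∈ B, a * b = r := fun r hr => by
      rw [← SetLike.mem_coe, coe_mul_of_right_le_normalizer_left (N := A) (H := B)
        fun b hb => mem_norm.2 (hB b hb).2] at hr
      exact hr
    have d' : ∀ r ∈ (A ⊔ B).subgroupOf K, ∃ b ∈ B, (r : X) * r ∈ A ∧
        ∀ m : M, e (.ofAdd (r • m)) = b * e (.ofAdd m) * b⁻¹ := fun r hr => by
      obtain ⟨a, ha, b, hb, g⟩ := d r hr
      refine ⟨b, hb, ?_, fun m => by rw [e3, ← g, cj a ha b (hB b hb).2 _ (eA _)]⟩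
      rw [← g, show a * b * (a * b) = a * (b * a * b⁻¹) * (b * b) by group, (hB b hb).1, mul_one]
      exact mul_mem ha (mem_of_cn (hB b hb).2 ha)
    choose! κ κ1 κ2 using fun h (hh : cn h A = A) => (show ∃ k ∈ K, h * k⁻¹ ∈ A by
      obtain ⟨a, ha, k, hk, rfl⟩ := dec h hh
      exact ⟨k, hk, by rwa [mul_inv_cancel_right]⟩)
    have κ3 : ∀ b ∈ B, κ b ∈ (A ⊔ B) ⊓ K := fun b hb => ⟨by
      have := mul_mem (inv_mem (mem_sup_left (κ2 b (hB b hb).2))) (mem_sup_right (S := A) hb)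
      simpa using this, κ1 b (hB b hb).2⟩
    have := m2 ((A ⊔ B).subgroupOf K) (fun r hr => ?_) (t W) (fun a a' h h' => ?_)
      (fun a ha r hr s hs => ?_) (t U) (fun r hr u hu => ?_) ?_
    · intro b hb
      have g : κ b = 1 := congrArg Subtype.val
        (mem_bot.1 (this ▸ (κ3 b hb).1 : (⟨κ b, (κ3 b hb).2⟩ : K) ∈ ⊥))
      simpa [g] using κ2 b (hB b hb).2
    · obtain ⟨b, -, g, -⟩ := d' r hr
      exact Subtype.ext (mem_bot.1 (hAK ▸ ⟨g, (r * r).2⟩))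
    · rw [t1] at h h' ⊢
      exact ea a a' ▸ w1 _ (eA _) _ (eA _) h h'
    · obtain ⟨b, hb, -, g⟩ := d' r hr
      obtain ⟨c, hc, -, g'⟩ := d' s hs
      refine Multiplicative.ofAdd.injective (e1 ?_)
      rw [g', ← ea, g, w2 _ ((t1 _ _).1 ha) b hb c hc, mul_inv_cancel_right]
    · obtain ⟨b, hb, -, g⟩ := d' r hr
      refine Multiplicative.ofAdd.injective (e1 ?_)
      rw [g, u1 b hb _ ((t1 _ _).1 hu), mul_inv_cancel_right]
    · have r := rel_le (G₁ := B) (K := B ⊓ A) (U := ⊥) κ κ3 fun b hb b' hb' g => ⟨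
        B.mul_mem (B.inv_mem hb) hb', by
          have a1 := κ2 b (hB b hb).2
          have a2 := κ2 b' (hB b' hb').2
          rw [← inv_mul_eq_one.1 (mem_bot.1 g)] at a2
          simpa [mul_assoc] using mem_of_cn (cn_inv (n _ (κ3 b hb).2)) (mul_mem (inv_mem a1) a2)⟩
      rw [relIndex_bot_left] at r
      rw [t2 U hU, ← inf_subgroupOf_right, Nat.card_congr (subgroupOfEquivOfLe inf_le_right).toEquiv]
      rw [← card_rel (inf_le_left : B ⊓ A ≤ B), hA] at u2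
      have p : 0 < Nat.card ↥(B ⊓ A) := Nat.card_pos
      have := u2.trans (Nat.mul_le_mul_left 2 (Nat.mul_le_mul_left _ (Nat.mul_le_mul_left _ r)))
      nlinarith
  · obtain ⟨a, rfl⟩ := Ae a ha
    obtain ⟨b, rfl⟩ := Ae b hb
    obtain ⟨c, rfl⟩ := Ae c hc
    simpa only [ea, hQ] using q1 a b c
  · obtain ⟨a, ha, k, hk, rfl⟩ := dec g hg
    obtain ⟨b, rfl⟩ := Ae b hb
    rw [cj a ha k (n k hk) _ hb, ← e3 ⟨k, hk⟩, hQ, hQ, q2]
  · obtain ⟨a, rfl⟩ := Ae a ha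
    rw [q3 a fun b => by simpa only [ea, hQ] using h _ (eA (.ofAdd b))]
    exact map_one e
  · obtain ⟨a, rfl⟩ := Ae a ha
    rw [f a ((fx _ _).2 h1) ((fx _ _).2 h2)]
    exact map_one e

end H94.U20
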